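import Cfsg.Agent.McLOut.Elements
import Cfsg.Agent.Mathieu.FixList

/-!
The centraliser of the permutation of order five in the joint stabiliser is generated by it and
the second element of order five.
-/

set_option autoImplicit false
set_option maxRecDepth 20000
set_option linter.style.haveILetI false

namespace CfsgLib.McLOut

open Cfsg CfsgLib.Leech
open scoped Pointwise

theorem check_of_mem {x : GolayPt → ℤ} (hx : x ∈ leechLattice) : CheckLeech x := by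
  obtain ⟨m, a, hxa, ha, hs⟩ := mem_leech_iff.1 hx
  have hd : ∀ i, (x i - x none) / 2 = a i - a none := fun i => by rw [hxa i, hxa none]; omega
  have hred : (fun i => (((a i - a none : ℤ)) : ZMod 2)) ∈ golayCode := by
    have : (fun i => (((a i - a none : ℤ)) : ZMod 2)) =
        red a - ((a none : ZMod 2)) • (1 : GolayPt → ZMod 2) := by
      funext i
      simp [red_apply]
    rw [this]
    exact sub_mem ha (Submodule.smul_mem _ _ one_mem_code)
  obtain ⟨h1, h2⟩ := (mem_code_iff _).1 hred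
  refine ⟨fun i => by rw [hxa i, hxa none]; omega, fun t => ?_, ?_, ?_⟩
  · have := h1 t
    rw [dot₂_apply] at this
    simpa only [hd] using this
  · rw [dot₂_apply] at h2
    simp only [Pi.one_apply, one_mul] at h2
    simpa only [hd] using h2
  · have e : ∑ i, x i = 24 * m + 2 * ∑ i, a i := by
      rw [Finset.sum_congr rfl fun i _ => hxa i, Finset.sum_add_distrib, ← Finset.mul_sum,
        Finset.sum_const, Finset.card_univ,
        show Fintype.card GolayPt = 24 from rfl, nsmul_eq_mul]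
      norm_num
    rw [e, hxa none]
    omega

/-- The number of the orbit of the permutation of order five through a point. -/
def cls : GolayPt → Fin 8
  | none => 0
  | some x => ([1, 2, 4, 5, 5, 3, 4, 6, 4, 4, 6, 6, 5, 5, 7, 7, 4, 6, 5, 7, 7, 7, 6].getD x.val 0)

/-- A point in each orbit. -/
def cRep (i : Fin 8) : GolayPt :=
  [none, some 0, some 1, some 5, some 2, some 3, some 7, some 14].getD i none

theorem cls_spec : (∀ p, ∃ k : Fin 5, (cPerm ^ (k : ℕ)) (cRep (cls p)) = p) ∧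
    ∀ p, cls (cPerm p) = cls p := by
  decide +kernel

/-- A vector constant on the orbits. -/
def shapeC (a : Fin 8 → ℤ) : GolayPt → ℤ := fun p => a (cls p)

theorem eq_shapeC {y : leechLattice} (h : cL • y = y) :
    (y : GolayPt → ℤ) = shapeC fun i => (y : GolayPt → ℤ) (cRep i) := by
  have hk : ∀ k : ℕ, ∀ i, (y : GolayPt → ℤ) ((cPerm ^ k) i) = (y : GolayPt → ℤ) i := by
    intro k
    induction k with
    | zero => intro i; rfl
    | succ k ih =>
      intro i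
      rw [pow_succ, Equiv.Perm.mul_apply, ih]
      have := congrFun (congrArg Subtype.val h) (cPerm i)
      rw [cL, permHom_apply, show cM.1.symm (cPerm i) = i from
        Equiv.symm_apply_apply cPerm i] at this
      exact this.symm
  funext p
  obtain ⟨k, hk'⟩ := cls_spec.1 p
  conv_lhs => rw [← hk', hk]
  rfl

theorem sum_shapeC (w : GolayPt → ℤ) (a : Fin 8 → ℤ) :
    ∑ p, w p * shapeC a p = ∑ i, (∑ p ∈ Finset.univ.filter (fun p => cls p = i), w p) * a i := by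
  rw [← Finset.sum_fiberwise Finset.univ cls]
  refine Finset.sum_congr rfl fun i _ => ?_
  rw [Finset.sum_mul]
  refine Finset.sum_congr rfl fun p hp => ?_
  rw [Finset.mem_filter] at hp
  rw [shapeC, hp.2]

/-- The vector moved by the second element of order five. -/
def ptVec : GolayPt → ℤ := ofL Data.fixPoint

theorem cls_sums :
    (∀ i, (∑ p ∈ Finset.univ.filter (fun p => cls p = i), Spor.vecU p) =
      ![4, 4, 0, 0, 0, 0, 0, 0] i) ∧
    (∀ i, (∑ p ∈ Finset.univ.filter (fun p => cls p = i), oddVec none p) =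
      ![-3, 1, 1, 1, 5, 5, 5, 5] i) ∧
    (∀ i, (∑ p ∈ Finset.univ.filter (fun p => cls p = i), ptVec p) =
      ![1, 3, -1, -1, 5, 5, 5, -5] i) ∧
    (∀ i, (∑ p ∈ Finset.univ.filter (fun p => cls p = i), (1 : ℤ)) =
      ![1, 1, 1, 1, 5, 5, 5, 5] i) := by
  decide +kernel

theorem dots_shapeC (a : Fin 8 → ℤ) :
    dotInt Spor.vecU (shapeC a) = 4 * a 0 + 4 * a 1 ∧
    dotInt (oddVec none) (shapeC a) =
      -3 * a 0 + a 1 + a 2 + a 3 + 5 * (a 4 + a 5 + a 6 + a 7) ∧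
    dotInt ptVec (shapeC a) =
      a 0 + 3 * a 1 - a 2 - a 3 + 5 * (a 4 + a 5 + a 6 - a 7) ∧
    sqNorm (shapeC a) = a 0 ^ 2 + a 1 ^ 2 + a 2 ^ 2 + a 3 ^ 2 +
      5 * (a 4 ^ 2 + a 5 ^ 2 + a 6 ^ 2 + a 7 ^ 2) := by
  obtain ⟨hU, hO, hP, h1⟩ := cls_sums
  refine ⟨?_, ?_, ?_, ?_⟩
  · rw [dotInt, sum_shapeC, Fin.sum_univ_eight]; simp only [hU]; simp
  · rw [dotInt, sum_shapeC, Fin.sum_univ_eight]; simp only [hO]; simp; ring
  · rw [dotInt, sum_shapeC, Fin.sum_univ_eight]; simp only [hP]; simp; ring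
  · rw [sqNorm, show (∑ p, shapeC a p ^ 2) = ∑ p, (1 : ℤ) * shapeC (fun i => a i ^ 2) p from
      Finset.sum_congr rfl fun p _ => (one_mul _).symm, sum_shapeC, Fin.sum_univ_eight]
    simp only [h1]; simp; ring

/-- The values of a vector from four parameters and four orbit values. -/
def paramC (a0 a1 a2 a3 t0 t1 t2 t3 : ℤ) : Fin 8 → ℤ := ![a0, a1, a2, a3, t0, t1, t2, t3]

theorem solutions32 : ∀ t0 ∈ Finset.Icc (-2 : ℤ) 2, ∀ t1 ∈ Finset.Icc (-2 : ℤ) 2,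
    ∀ t2 ∈ Finset.Icc (-2 : ℤ) 2, ∀ t3 ∈ Finset.Icc (-2 : ℤ) 2,
    5 * (t0 ^ 2 + t1 ^ 2 + t2 ^ 2 + t3 ^ 2) ≤ 24 →
    ∀ a0 ∈ Finset.Icc (-1 : ℤ) 5, ∀ a2 ∈ Finset.Icc (-5 : ℤ) 5,
      a0 ^ 2 + (4 - a0) ^ 2 + a2 ^ 2 +
          (4 + 4 * a0 - a2 - 5 * (t0 + t1 + t2 + t3)) ^ 2 +
          5 * (t0 ^ 2 + t1 ^ 2 + t2 ^ 2 + t3 ^ 2) = 32 →
      CheckLeech (shapeC (paramC a0 (4 - a0) a2
        (4 + 4 * a0 - a2 - 5 * (t0 + t1 + t2 + t3)) t0 t1 t2 t3)) →
      toL (shapeC (paramC a0 (4 - a0) a2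
        (4 + 4 * a0 - a2 - 5 * (t0 + t1 + t2 + t3)) t0 t1 t2 t3)) ∈ Data.fixPoints := by
  decide +kernel

theorem solutions64 : ∀ t0 ∈ Finset.Icc (-2 : ℤ) 2, ∀ t1 ∈ Finset.Icc (-2 : ℤ) 2,
    ∀ t2 ∈ Finset.Icc (-2 : ℤ) 2, ∀ t3 ∈ Finset.Icc (-2 : ℤ) 2,
    5 * (t0 ^ 2 + t1 ^ 2 + t2 ^ 2 + t3 ^ 2) ≤ 32 →
    ∀ a0 ∈ Finset.Icc (0 : ℤ) 8, ∀ a2 ∈ Finset.Icc (-5 : ℤ) 5,
      a0 ^ 2 + (8 - a0) ^ 2 + a2 ^ 2 +
          (-32 + 4 * a0 - a2 - 5 * (t0 + t1 + t2 + t3)) ^ 2 +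
          5 * (t0 ^ 2 + t1 ^ 2 + t2 ^ 2 + t3 ^ 2) = 64 →
      a0 + 3 * (8 - a0) - a2 - (-32 + 4 * a0 - a2 - 5 * (t0 + t1 + t2 + t3)) +
          5 * (t0 + t1 + t2 - t3) = 8 →
      CheckLeech (shapeC (paramC a0 (8 - a0) a2
        (-32 + 4 * a0 - a2 - 5 * (t0 + t1 + t2 + t3)) t0 t1 t2 t3)) →
      toL (shapeC (paramC a0 (8 - a0) a2
        (-32 + 4 * a0 - a2 - 5 * (t0 + t1 + t2 + t3)) t0 t1 t2 t3)) = axisL none := by
  decide +kernel

theorem fixed32 {y : leechLattice} (hc : cL • y = y) (hn : nrm y = 32)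
    (hu : ip Spor.leechU y = 16) (ho : ip oddElt y = 8) :
    toL (y : GolayPt → ℤ) ∈ Data.fixPoints := by
  have hy := eq_shapeC hc
  set a : Fin 8 → ℤ := fun i => (y : GolayPt → ℤ) (cRep i) with ha
  obtain ⟨dU, dO, -, dN⟩ := dots_shapeC a
  rw [← hy] at dU dO dN
  rw [show sqNorm (y : GolayPt → ℤ) = 32 from hn] at dN
  rw [show dotInt Spor.vecU (y : GolayPt → ℤ) = 16 from hu] at dU
  rw [show dotInt (oddVec none) (y : GolayPt → ℤ) = 8 from ho] at dO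
  have e1 : a 1 = 4 - a 0 := by linarith
  have e3 : a 3 = 4 + 4 * a 0 - a 2 - 5 * (a 4 + a 5 + a 6 + a 7) := by linarith
  have hpa : a = paramC (a 0) (4 - a 0) (a 2)
      (4 + 4 * a 0 - a 2 - 5 * (a 4 + a 5 + a 6 + a 7)) (a 4) (a 5) (a 6) (a 7) := by
    funext i; fin_cases i <;> simp [paramC, e1, e3]
  have h8 : 8 ≤ a 0 ^ 2 + a 1 ^ 2 := by nlinarith [sq_nonneg (a 0 - 2)]
  have key := solutions32 (a 4) (Finset.mem_Icc.2 ⟨by nlinarith, by nlinarith⟩)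
    (a 5) (Finset.mem_Icc.2 ⟨by nlinarith, by nlinarith⟩)
    (a 6) (Finset.mem_Icc.2 ⟨by nlinarith, by nlinarith⟩)
    (a 7) (Finset.mem_Icc.2 ⟨by nlinarith, by nlinarith⟩)
    (by nlinarith [sq_nonneg (a 2), sq_nonneg (a 3)])
    (a 0) (Finset.mem_Icc.2 ⟨by nlinarith, by nlinarith⟩)
    (a 2) (Finset.mem_Icc.2 ⟨by nlinarith, by nlinarith⟩)
    (by rw [← e1, ← e3]; linarith)
  rw [← hpa, ← hy] at key
  exact key (check_of_mem y.2)

theorem axis_unique {y : leechLattice} (hc : cL • y = y) (hn : nrm y = 64)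
    (hu : ip Spor.leechU y = 32) (ho : ip oddElt y = -24)
    (hp : dotInt ptVec (y : GolayPt → ℤ) = 8) : y = axisVec none := by
  have hy := eq_shapeC hc
  set a : Fin 8 → ℤ := fun i => (y : GolayPt → ℤ) (cRep i) with ha
  obtain ⟨dU, dO, dP, dN⟩ := dots_shapeC a
  rw [← hy] at dU dO dP dN
  rw [hp] at dP
  rw [show sqNorm (y : GolayPt → ℤ) = 64 from hn] at dN
  rw [show dotInt Spor.vecU (y : GolayPt → ℤ) = 32 from hu] at dU
  rw [show dotInt (oddVec none) (y : GolayPt → ℤ) = -24 from ho] at dO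
  have e1 : a 1 = 8 - a 0 := by linarith
  have e3 : a 3 = -32 + 4 * a 0 - a 2 - 5 * (a 4 + a 5 + a 6 + a 7) := by linarith
  have hpa : a = paramC (a 0) (8 - a 0) (a 2)
      (-32 + 4 * a 0 - a 2 - 5 * (a 4 + a 5 + a 6 + a 7)) (a 4) (a 5) (a 6) (a 7) := by
    funext i; fin_cases i <;> simp [paramC, e1, e3]
  have h32 : 32 ≤ a 0 ^ 2 + a 1 ^ 2 := by nlinarith [sq_nonneg (a 0 - 4)]
  have key := solutions64 (a 4) (Finset.mem_Icc.2 ⟨by nlinarith, by nlinarith⟩)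
    (a 5) (Finset.mem_Icc.2 ⟨by nlinarith, by nlinarith⟩)
    (a 6) (Finset.mem_Icc.2 ⟨by nlinarith, by nlinarith⟩)
    (a 7) (Finset.mem_Icc.2 ⟨by nlinarith, by nlinarith⟩)
    (by nlinarith [sq_nonneg (a 2), sq_nonneg (a 3)])
    (a 0) (Finset.mem_Icc.2 ⟨by nlinarith, by nlinarith⟩)
    (a 2) (Finset.mem_Icc.2 ⟨by nlinarith, by nlinarith⟩)
    (by rw [← e1, ← e3]; linarith) (by rw [← e1, ← e3]; linarith)
  rw [← hpa, ← hy] at key
  exact Subtype.ext (toL_injective (key (check_of_mem y.2)))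

end CfsgLib.McLOut
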