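import Cfsg.Agent.McLOut.Mat

/-!
Lower bounds for orders of subgroups from orbit trees of vectors.
-/

set_option autoImplicit false

namespace CfsgLib.McLOut

open Cfsg CfsgLib.Leech

theorem act_of_word {gs : List Co0} {Rs : List (List (List ℤ))} {R : List (List ℤ)}
    (h : List.Forall₂ Act gs Rs) (hR : R = ptList.map fun j => toL (entry R j))
    (e : ∀ k, evalW Rs (axisL k) = colL R k) : Act gs.prod R := by
  have hlen : R.length = 24 := by rw [hR]; simp [ptList_facts.2.2.1]
  refine act_of_axes hR fun k j => ?_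
  have := evalW_apply h (axisVec k)
  rw [axisL_eq, e, colL_eq hlen] at this
  exact (congrFun (toL_injective this) j)

/-- The conditions for a matrix to record a quotient of two words. -/
def CheckQuot (Rs₂ Rs₁ : List (List (List ℤ))) (R : List (List ℤ)) : Prop :=
  R = (ptList.map fun j => toL (entry R j)) ∧
    ∀ k, CheckLeech (ofL (colL R k)) ∧ evalW Rs₂ (colL R k) = evalW Rs₁ (axisL k)

instance decidableCheckQuot (Rs₂ Rs₁ : List (List (List ℤ))) (R : List (List ℤ)) :
    Decidable (CheckQuot Rs₂ Rs₁ R) := by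
  unfold CheckQuot; infer_instance

theorem act_of_quot {gs₂ gs₁ : List Co0} {Rs₂ Rs₁ : List (List (List ℤ))} {R : List (List ℤ)}
    (h₂ : List.Forall₂ Act gs₂ Rs₂) (h₁ : List.Forall₂ Act gs₁ Rs₁)
    (h : CheckQuot Rs₂ Rs₁ R) : Act (gs₂.prod⁻¹ * gs₁.prod) R := by
  obtain ⟨hR, hk⟩ := h
  have hlen : R.length = 24 := by rw [hR]; simp [ptList_facts.2.2.1]
  refine act_of_axes hR fun k j => ?_
  obtain ⟨hm, he⟩ := hk k
  have hy : gs₂.prod • (⟨ofL (colL R k), mem_leech_of_check hm⟩ : leechLattice) =
      gs₁.prod • axisVec k := by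
    refine Subtype.ext (toL_injective ?_)
    rw [evalW_apply h₂, evalW_apply h₁, axisL_eq, ← he]
    congr 1
    show toL (ofL (colL R k)) = colL R k
    rw [colL_eq hlen, ofL_toL]
  rw [mul_smul, ← hy, inv_smul_smul]
  show ofL (colL R k) j = _
  rw [colL_eq hlen, ofL_toL]
  rfl

theorem forall₂_words {G : List Co0} {Rs : List (List (List ℤ))} (h : List.Forall₂ Act G Rs)
    (w : List ℕ) (hw : ∀ k ∈ w, k < Rs.length) :
    List.Forall₂ Act (w.map fun k => G.getD k 1) (w.map fun k => Rs.getD k []) := by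
  rw [List.forall₂_map_left_iff, List.forall₂_map_right_iff, List.forall₂_same]
  intro k hk
  have h2 : k < Rs.length := hw k hk
  have h1 : k < G.length := h.length_eq ▸ h2
  rw [List.getD_eq_getElem _ _ h1, List.getD_eq_getElem _ _ h2]
  exact List.forall₂_iff_get.1 h |>.2 k h1 h2

theorem word_prod_mem {G : List Co0} (w : List ℕ) :
    (w.map fun k => G.getD k 1).prod ∈ Subgroup.closure {g | g ∈ G} := by
  refine list_prod_mem fun x hx => ?_
  obtain ⟨k, -, rfl⟩ := List.mem_map.1 hx
  by_cases hk : k < G.length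
  · rw [List.getD_eq_getElem _ _ hk]
    exact Subgroup.subset_closure (List.getElem_mem hk)
  · rw [List.getD_eq_default _ _ (by omega)]
    exact one_mem _

/-- The quotient of two words. -/
def quotElt (G : List Co0) (w : List ℕ × List ℕ) : Co0 :=
  (w.1.map fun k => G.getD k 1).prod⁻¹ * (w.2.map fun k => G.getD k 1).prod

theorem quotElt_mem (G : List Co0) (w : List ℕ × List ℕ) :
    quotElt G w ∈ Subgroup.closure {g | g ∈ G} :=
  mul_mem (inv_mem (word_prod_mem _)) (word_prod_mem _)

/-- The conditions on the generators of the next level. -/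
def CheckLevel (Rs : List (List (List ℤ))) (ws : List (List ℕ × List ℕ))
    (Rs' : List (List (List ℤ))) : Prop :=
  List.Forall₂ (fun w R => (∀ k ∈ w.1 ++ w.2, k < Rs.length) ∧
    CheckQuot (w.1.map fun k => Rs.getD k []) (w.2.map fun k => Rs.getD k []) R) ws Rs'

theorem act_level {G : List Co0} {Rs Rs' : List (List (List ℤ))} {ws : List (List ℕ × List ℕ)}
    (h : List.Forall₂ Act G Rs) (hl : CheckLevel Rs ws Rs') :
    List.Forall₂ Act (ws.map (quotElt G)) Rs' := by
  rw [List.forall₂_map_left_iff]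
  refine List.Forall₂.imp (fun w R hw => ?_) hl
  exact act_of_quot (forall₂_words h _ fun k hk => hw.1 k (List.mem_append_left _ hk))
    (forall₂_words h _ fun k hk => hw.1 k (List.mem_append_right _ hk)) hw.2

/-- The conditions on an orbit tree. -/
def CheckOrbit (Rs : List (List (List ℤ))) (base : List ℤ) (orb : List (List ℤ))
    (tree : List (ℕ × ℕ)) : Prop :=
  CheckLeech (ofL base) ∧ toL (ofL base) = base ∧ orb.length = tree.length + 1 ∧
    orb.getD 0 [] = base ∧ orb.Nodup ∧
    ∀ i < tree.length, (tree.getD i (0, 0)).1 ≤ i ∧ (tree.getD i (0, 0)).2 < Rs.length ∧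
      orb.getD (i + 1) [] =
        mapp (Rs.getD (tree.getD i (0, 0)).2 []) (orb.getD (tree.getD i (0, 0)).1 [])

instance decidableCheckOrbit (Rs : List (List (List ℤ))) (base : List ℤ) (orb : List (List ℤ))
    (tree : List (ℕ × ℕ)) : Decidable (CheckOrbit Rs base orb tree) := by
  unfold CheckOrbit; infer_instance

theorem card_closure_ge [Finite Co0] {G G' : List Co0} {Rs Rs' : List (List (List ℤ))}
    {base : List ℤ} {orb : List (List ℤ)} {tree : List (ℕ × ℕ)}
    (hG : List.Forall₂ Act G Rs) (h : CheckOrbit Rs base orb tree)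
    (hG' : List.Forall₂ Act G' Rs') (hfix : ∀ R ∈ Rs', mapp R base = base)
    (hle : ∀ g ∈ G', g ∈ Subgroup.closure {g | g ∈ G}) :
    orb.length * Nat.card (Subgroup.closure {g : Co0 | g ∈ G'}) ≤
      Nat.card (Subgroup.closure {g : Co0 | g ∈ G}) := by
  classical
  obtain ⟨hm, hb, hlen, h0, hnd, hstep⟩ := h
  set K := Subgroup.closure {g : Co0 | g ∈ G}
  set x : leechLattice := ⟨ofL base, mem_leech_of_check hm⟩ with hxdef
  have hx : toL (x : GolayPt → ℤ) = base := hb
  have horb : ∀ i, i < orb.length →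
      ∃ k : K, toL ((k.1 • x : leechLattice) : GolayPt → ℤ) = orb.getD i [] := by
    intro i
    induction i using Nat.strong_induction_on with
    | _ i ih =>
      intro hi
      rcases i with _ | i
      · exact ⟨1, by rw [Subgroup.coe_one, one_smul, h0, hx]⟩
      · obtain ⟨hp, hk, he⟩ := hstep i (by omega)
        obtain ⟨k, hkk⟩ := ih (tree.getD i (0, 0)).1 (by omega) (by omega)
        have hkG : (tree.getD i (0, 0)).2 < G.length := hG.length_eq ▸ hk
        have hA := List.forall₂_iff_get.1 hG |>.2 _ hkG hk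
        rw [he, List.getD_eq_getElem Rs _ hk]
        refine ⟨⟨G[(tree.getD i (0, 0)).2] * k.1,
          mul_mem (Subgroup.subset_closure (List.getElem_mem hkG)) k.2⟩, ?_⟩
        show toL (((G[(tree.getD i (0, 0)).2] * k.1) • x : leechLattice) : GolayPt → ℤ) = _
        rw [mul_smul, ← hkk]
        exact hA.apply _
  have hK' : Subgroup.closure {g : Co0 | g ∈ G'} ≤ K := (Subgroup.closure_le K).2 hle
  have hst : Subgroup.closure {g : Co0 | g ∈ G'} ≤ MulAction.stabilizer Co0 x := by
    refine (Subgroup.closure_le _).2 fun g hg => ?_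
    obtain ⟨n, hn, rfl⟩ := List.getElem_of_mem hg
    have hn' : n < Rs'.length := hG'.length_eq ▸ hn
    have hA := List.forall₂_iff_get.1 hG' |>.2 n hn hn'
    refine Subtype.ext (toL_injective ?_)
    exact ((hA.apply x).trans (by rw [hx]; exact hfix _ (List.get_mem Rs' ⟨n, hn'⟩))).trans hx.symm
  rw [← Subgroup.index_mul_card (MulAction.stabilizer K x), MulAction.index_stabilizer]
  refine Nat.mul_le_mul ?_ ?_
  · have hfin : (MulAction.orbit K x).Finite := Set.finite_range _
    have hsub : (orb.toFinset : Set (List ℤ)) ⊆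
        (fun y : leechLattice => toL (y : GolayPt → ℤ)) '' MulAction.orbit K x := by
      intro l hl
      rw [Finset.mem_coe, List.mem_toFinset] at hl
      obtain ⟨i, hi, rfl⟩ := List.getElem_of_mem hl
      obtain ⟨k, hk⟩ := horb i hi
      refine ⟨k.1 • x, ⟨k, rfl⟩, ?_⟩
      rw [List.getD_eq_getElem orb _ hi] at hk
      exact hk
    have h1 := Set.ncard_le_ncard hsub (hfin.image _)
    rw [Set.ncard_coe_finset, List.toFinset_card_of_nodup hnd] at h1
    exact h1.trans (Set.ncard_image_le hfin)
  · refine Nat.card_le_card_of_injective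
      (fun g => (⟨⟨g.1, hK' g.2⟩, hst g.2⟩ : MulAction.stabilizer K x)) fun a b e => ?_
    exact Subtype.ext (congrArg (fun t : MulAction.stabilizer K x => (t.1 : Co0)) e)

end CfsgLib.McLOut
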