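import Cfsg.Agent.McLOut.MatE

/-! The powers of the element of order five. -/

set_option autoImplicit false
set_option maxRecDepth 20000

namespace CfsgLib.McLOut

open Cfsg CfsgLib.Leech

/-- The matrices of the powers of the element of order five. -/
def eMats : List (List (List ℤ)) :=
  [Data.matE0, Data.matE1, Data.matE2, Data.matE3, Data.matE4]

theorem eMats_spec : ∀ i : Fin 5,
    (eMats.getD i [] = ptList.map fun j => toL (entry (eMats.getD i []) j)) ∧
      ∀ k, evalW (List.replicate i Data.matE1) (axisL k) = colL (eMats.getD i []) k := by
  decide +kernel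

theorem forall₂_replicate {g : Co0} {R : List (List ℤ)} (h : Act g R) (n : ℕ) :
    List.Forall₂ Act (List.replicate n g) (List.replicate n R) := by
  induction n with
  | zero => exact List.Forall₂.nil
  | succ n ih => exact List.Forall₂.cons h ih

theorem act_ePow (i : Fin 5) : Act (eL ^ (i : ℕ)) (eMats.getD i []) := by
  rw [← List.prod_replicate]
  exact act_of_word (forall₂_replicate act_eL i) (eMats_spec i).1 (eMats_spec i).2

end CfsgLib.McLOut
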