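import Cfsg.Agent.McLOut.Perms

/-! The element exchanging the two vectors. -/

set_option autoImplicit false
set_option maxRecDepth 20000

namespace CfsgLib.McLOut

open Cfsg CfsgLib.Leech

theorem checkMat_matG : CheckMat Data.matG := by decide +kernel

theorem checkMat_matG' : CheckMat (transM Data.matG) := by decide +kernel

theorem checkOrth_matG : CheckOrth Data.matG := by decide +kernel

theorem checkOrth_matG' : CheckOrth (transM Data.matG) := by decide +kernel

theorem trans_matG : ∀ j k, entry (transM Data.matG) j k = entry Data.matG k j := by
  decide +kernel

/-- The element exchanging the two vectors. -/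
def gL : Co0 := ofMat Data.matG (transM Data.matG) checkMat_matG checkMat_matG'
  checkOrth_matG trans_matG checkOrth_matG'

theorem act_gL : Act gL Data.matG :=
  act_ofMat checkMat_matG checkMat_matG' checkOrth_matG trans_matG checkOrth_matG'
    (by decide +kernel)

end CfsgLib.McLOut
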