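import Cfsg.Agent.McLOut.EPow
import Cfsg.Agent.McLOut.MatG
import Cfsg.Agent.Leech.McLSimple

/-!
Elements of the joint stabiliser of two short vectors with product `-8`: the doubling map, a
permutation of order five normalising it, an element of order five centralising that permutation,
and an element exchanging the two vectors.
-/

set_option autoImplicit false
set_option maxRecDepth 20000

namespace CfsgLib.McLOut

open Cfsg CfsgLib.Leech
open scoped Pointwise

theorem fixes_of_act {g : Co0} {R : List (List ℤ)} (h : Act g R) (v w : leechLattice)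
    (e : mapp R (toL (v : GolayPt → ℤ)) = toL (w : GolayPt → ℤ)) : g • v = w :=
  Subtype.ext (toL_injective ((h.apply v).trans e))

theorem leechU_toL : toL (Spor.leechU : GolayPt → ℤ) = toL Spor.vecU := rfl

theorem oddElt_toL : toL (oddElt : GolayPt → ℤ) = toL (oddVec none) := rfl

theorem fix_checks : mapp Data.matE1 (toL Spor.vecU) = toL Spor.vecU ∧
    mapp Data.matE1 (toL (oddVec none)) = toL (oddVec none) ∧
    mapp Data.matC1 (toL Spor.vecU) = toL Spor.vecU ∧
    mapp Data.matC1 (toL (oddVec none)) = toL (oddVec none) ∧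
    mapp Data.matG (toL Spor.vecU) = toL (oddVec none) ∧
    mapp Data.matG (toL (oddVec none)) = toL Spor.vecU ∧
    mapp Data.matD (toL Spor.vecU) = toL Spor.vecU ∧
    mapp Data.matD (toL (oddVec none)) = toL (oddVec none) := by
  decide +kernel

/-- The joint stabiliser. -/
abbrev mclStab : Subgroup Co0 := pairStab Spor.leechU oddElt

theorem eL_mem : eL ∈ mclStab :=
  ⟨fixes_of_act act_eL _ _ fix_checks.1, fixes_of_act act_eL _ _ fix_checks.2.1⟩

theorem cL_mem : cL ∈ mclStab :=
  ⟨fixes_of_act act_cL _ _ fix_checks.2.2.1, fixes_of_act act_cL _ _ fix_checks.2.2.2.1⟩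

theorem gL_swap : gL • Spor.leechU = oddElt ∧ gL • oddElt = Spor.leechU :=
  ⟨fixes_of_act act_gL _ _ fix_checks.2.2.2.2.1, fixes_of_act act_gL _ _ fix_checks.2.2.2.2.2.1⟩

theorem doubleL_mem : doubleL ∈ mclStab :=
  ⟨fixes_of_act act_doubleL _ _ fix_checks.2.2.2.2.2.2.1,
    fixes_of_act act_doubleL _ _ fix_checks.2.2.2.2.2.2.2⟩

theorem cL_conj : cL * doubleL * cL⁻¹ = doubleL ^ 3 := by
  rw [cL, doubleL, ← map_inv, ← map_mul, ← map_mul, ← map_pow]
  congr 1
  exact Subtype.ext (Equiv.ext fun p => (cPerm_conj p).1)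

theorem cL_pow_five : cL ^ 5 = 1 := by
  rw [cL, ← map_pow, ← map_one permHom]
  congr 1
  exact Subtype.ext (Equiv.ext fun p => (cPerm_conj p).2)

theorem rel_checks : (∀ k, evalW [Data.matC1, Data.matE1] (axisL k) =
      evalW [Data.matE1, Data.matC1] (axisL k)) ∧
    (∀ k, evalW [Data.matE4, Data.matE1] (axisL k) = axisL k) ∧
    (∀ k, evalW [Data.matG, Data.matD] (axisL k) = evalW [Data.matD, Data.matG] (axisL k)) ∧
    (∀ k, evalW [Data.matG, Data.matC1] (axisL k) = evalW [Data.matC1, Data.matG] (axisL k)) ∧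
    (∀ k, evalW [Data.matG, Data.matE1] (axisL k) =
      evalW [Data.matC2, Data.matE4, Data.matG] (axisL k)) := by
  decide +kernel

theorem eL_commute : cL * eL = eL * cL := by
  have := eq_of_evalW (.cons act_cL (.cons act_eL .nil)) (.cons act_eL (.cons act_cL .nil))
    rel_checks.1
  simpa using this

theorem eL_pow_five : eL ^ 5 = 1 := by
  have h4 : Act (eL ^ 4) Data.matE4 := act_ePow 4
  have := eq_of_evalW (gs' := []) (Rs' := []) (.cons h4 (.cons act_eL .nil)) .nil
    rel_checks.2.1
  simpa [← pow_succ] using this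

theorem gL_commute_double : gL * doubleL = doubleL * gL := by
  have := eq_of_evalW (.cons act_gL (.cons act_doubleL .nil))
    (.cons act_doubleL (.cons act_gL .nil)) rel_checks.2.2.1
  simpa using this

theorem gL_commute_c : gL * cL = cL * gL := by
  have := eq_of_evalW (.cons act_gL (.cons act_cL .nil))
    (.cons act_cL (.cons act_gL .nil)) rel_checks.2.2.2.1
  simpa using this

theorem gL_conj_e : gL * eL = cL ^ 2 * eL ^ 4 * gL := by
  have h2 : Act (cL ^ 2) Data.matC2 := act_cPow 2
  have h4 : Act (eL ^ 4) Data.matE4 := act_ePow 4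
  have := eq_of_evalW (.cons act_gL (.cons act_eL .nil))
    (.cons h2 (.cons h4 (.cons act_gL .nil))) rel_checks.2.2.2.2
  simpa [mul_assoc] using this

end CfsgLib.McLOut
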