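import Cfsg.Agent.McLOut.Chain
import Cfsg.Agent.McLOut.Data

/-! The matrices at the levels of the stabiliser chain. -/

set_option autoImplicit false
set_option maxRecDepth 20000

namespace CfsgLib.McLOut

open Cfsg CfsgLib.Leech

instance decidableCheckLevel (Rs : List (List (List ℤ))) (ws : List (List ℕ × List ℕ))
    (Rs' : List (List (List ℤ))) : Decidable (CheckLevel Rs ws Rs') := by
  unfold CheckLevel; infer_instance

/-- The matrices of the generators. -/
def mats0 : List (List (List ℤ)) := [Data.matD, Data.matC1, Data.matE1]

/-- The matrices at the second level. -/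
def mats1 : List (List (List ℤ)) := [Data.gen1a, Data.gen1b]

/-- The matrices at the third level. -/
def mats2 : List (List (List ℤ)) := [Data.gen2a, Data.gen2b]

/-- The matrices at the fourth level. -/
def mats3 : List (List (List ℤ)) := [Data.gen3a, Data.gen3b, Data.gen3c]

/-- The matrices at the fifth level. -/
def mats4 : List (List (List ℤ)) := [Data.gen4a, Data.gen4b]

end CfsgLib.McLOut
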