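import Cfsg.Agent.McLOut.GenMats

/-! Checks of the stabiliser chain. -/

set_option autoImplicit false
set_option maxRecDepth 20000

namespace CfsgLib.McLOut

open Cfsg CfsgLib.Leech

theorem level1 : CheckLevel mats0 Data.words1 mats1 := by decide +kernel

theorem level2 : CheckLevel mats1 Data.words2 mats2 := by decide +kernel

end CfsgLib.McLOut
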