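import Cfsg.Agent.McLOut.GenMats

/-! Checks of the stabiliser chain. -/

set_option autoImplicit false
set_option maxRecDepth 20000
-- sequential kernel evaluation keeps the peak memory of the certificates low
set_option Elab.async false

namespace CfsgLib.McLOut

open Cfsg CfsgLib.Leech

set_option maxHeartbeats 6000000 in
theorem level3 : CheckLevel mats2 Data.words3 mats3 := by
  unfold CheckLevel mats3 Data.words3
  refine List.Forall₂.cons ?_ (List.Forall₂.cons ?_ (List.Forall₂.cons ?_ List.Forall₂.nil))
  all_goals refine ⟨by decide +kernel, ⟨by decide +kernel, fun k => ?_⟩⟩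
  all_goals rcases k with _ | k
  all_goals first | decide +kernel | (fin_cases k <;> decide +kernel)

end CfsgLib.McLOut
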