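import Cfsg.Agent.McLOut.GenMats

/-! Checks of the stabiliser chain. -/

set_option autoImplicit false
set_option maxRecDepth 20000

namespace CfsgLib.McLOut

open Cfsg CfsgLib.Leech

theorem level4 : CheckLevel mats3 Data.words4 mats4 := by decide +kernel

theorem fixes_next : (∀ R ∈ mats1, mapp R Data.base0 = Data.base0) ∧
    (∀ R ∈ mats2, mapp R Data.base1 = Data.base1) ∧
    (∀ R ∈ mats3, mapp R Data.base2 = Data.base2) ∧
    (∀ R ∈ mats4, mapp R Data.base3 = Data.base3) := by
  decide +kernel

theorem lengths : Data.orb0.length = 275 ∧ Data.orb1.length = 162 ∧ Data.orb2.length = 105 ∧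
    Data.orb3.length = 64 ∧ Data.orb4.length = 3 := by
  decide +kernel

end CfsgLib.McLOut
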