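import Cfsg.Agent.McLOut.GenMats

/-! Checks of the stabiliser chain. -/

set_option autoImplicit false
set_option maxRecDepth 20000

namespace CfsgLib.McLOut

open Cfsg CfsgLib.Leech

theorem orbit1 : CheckOrbit mats1 Data.base1 Data.orb1 Data.tree1 := by decide +kernel

theorem orbit2 : CheckOrbit mats2 Data.base2 Data.orb2 Data.tree2 := by decide +kernel

theorem orbit3 : CheckOrbit mats3 Data.base3 Data.orb3 Data.tree3 := by decide +kernel

theorem orbit4 : CheckOrbit mats4 Data.base4 Data.orb4 Data.tree4 := by decide +kernel

end CfsgLib.McLOut
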