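import Cfsg.Agent.McLOut.Elements
import Cfsg.Agent.McLOut.LevelA
import Cfsg.Agent.McLOut.LevelB
import Cfsg.Agent.McLOut.LevelC
import Cfsg.Agent.McLOut.OrbitA
import Cfsg.Agent.McLOut.OrbitB

/-!
The joint stabiliser is generated by the doubling map and the two elements of order five.
-/

set_option autoImplicit false
set_option maxRecDepth 20000

namespace CfsgLib.McLOut

open Cfsg CfsgLib.Leech
open scoped Pointwise

/-- The three generators. -/
def gens0 : List Co0 := [doubleL, cL, eL]

theorem act_gens0 : List.Forall₂ Act gens0 mats0 :=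
  .cons act_doubleL (.cons act_cL (.cons act_eL .nil))

theorem card_gens_ge [Finite Co0] :
    898128000 ≤ Nat.card (Subgroup.closure {g : Co0 | g ∈ gens0}) := by
  have a1 := act_level act_gens0 level1
  have a2 := act_level a1 level2
  have a3 := act_level a2 level3
  have a4 := act_level a3 level4
  have hmem : ∀ (G : List Co0) (ws : List (List ℕ × List ℕ)),
      ∀ g ∈ ws.map (quotElt G), g ∈ Subgroup.closure {g | g ∈ G} := by
    intro G ws g hg
    obtain ⟨w, -, rfl⟩ := List.mem_map.1 hg
    exact quotElt_mem G w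
  obtain ⟨f1, f2, f3, f4⟩ := fixes_next
  obtain ⟨l0, l1, l2, l3, l4⟩ := lengths
  have b4 := card_closure_ge (G' := []) (Rs' := []) a4 orbit4 .nil (by simp) (by simp)
  have b3 := card_closure_ge a3 orbit3 a4 f4 (hmem _ _)
  have b2 := card_closure_ge a2 orbit2 a3 f3 (hmem _ _)
  have b1 := card_closure_ge a1 orbit1 a2 f2 (hmem _ _)
  have b0 := card_closure_ge act_gens0 orbit0 a1 f1 (hmem _ _)
  rw [l0] at b0
  rw [l1] at b1
  rw [l2] at b2
  rw [l3] at b3
  rw [l4] at b4
  have h1 : 1 ≤ Nat.card (Subgroup.closure {g : Co0 | g ∈ ([] : List Co0)}) := Nat.card_pos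
  calc (898128000 : ℕ) = 275 * (162 * (105 * (64 * (3 * 1)))) := by norm_num
    _ ≤ _ := le_trans (by gcongr) (le_trans (Nat.mul_le_mul_left 275 (le_trans
        (Nat.mul_le_mul_left 162 (le_trans (Nat.mul_le_mul_left 105 (le_trans
          (Nat.mul_le_mul_left 64 b4) b3)) b2)) b1)) b0)

theorem closure_gens : Subgroup.closure {g : Co0 | g ∈ gens0} = mclStab := by
  haveI : Finite Co0 := finite_co0
  refine Subgroup.eq_of_le_of_card_ge ((Subgroup.closure_le _).2 fun g hg => ?_) ?_
  · simp only [gens0, List.mem_cons, List.not_mem_nil, or_false] at hg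
    rcases hg with rfl | rfl | rfl
    exacts [doubleL_mem, cL_mem, eL_mem]
  · obtain ⟨hu, ho, hud⟩ := mcl_base
    rw [card_mcl hu ho hud]
    exact card_gens_ge

end CfsgLib.McLOut
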