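import Cfsg.Agent.McLOut.Centralizer

/-!
The centraliser of the permutation of order five in the joint stabiliser has at most 25 elements.
-/

set_option autoImplicit false
set_option maxRecDepth 20000

namespace CfsgLib.McLOut

open Cfsg CfsgLib.Leech
open scoped Pointwise

/-- The nine points fixed by the square of a permutation centralising the one of order five. -/
def ninePts : Finset GolayPt :=
  Finset.univ.filter fun p => cls p ∈ ([0, 1, 2, 3, 7] : List (Fin 8))

/-- The representatives of the remaining three orbits. -/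
def threeRep (a : Fin 3) : GolayPt := [some 2, some 3, some 7].getD a none

theorem orbit_facts :
    ninePts.card = 9 ∧
    (∀ p, cPerm p = p → p ≠ none → p ≠ some 0 → p = some 1 ∨ p = some 5) ∧
    (∀ q, ptVec q = -1 → cPerm q ≠ q → ∃ k : Fin 5, q = (cPerm ^ (k : ℕ)) (some 14)) ∧
    (∀ q, q ∈ ninePts → q = none ∨ q = some 0 ∨ q = some 1 ∨ q = some 5 ∨
      ∃ k : Fin 5, q = (cPerm ^ (k : ℕ)) (some 14)) ∧
    (∀ q, q ∉ ninePts → ∃ (b : Fin 3) (k : Fin 5), q = (cPerm ^ (k : ℕ)) (threeRep b)) ∧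
    (∀ (a b : Fin 3) (n : Fin 9), (cPerm ^ (n : ℕ)) (threeRep b) = threeRep a →
      b = a ∧ (n : ℕ) % 5 = 0) ∧
    (∀ a, threeRep a ∉ ninePts) ∧ ptVec (some 14) = -1 ∧ cPerm (some 14) ≠ some 14 ∧
    cPerm (some 1) = some 1 ∧ cPerm (some 5) = some 5 := by
  refine ⟨?_, ?_, ?_, ?_, ?_, ?_, ?_, ?_, ?_, ?_, ?_⟩ <;> decide +kernel

theorem twelve_facts : ∀ a : Fin 3,
    9 ≤ ((({none, some 0} : Finset GolayPt) ∪
      Finset.univ.image fun k : Fin 5 => (cPerm ^ (k : ℕ)) (some 14)) ∪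
      Finset.univ.image fun k : Fin 5 => (cPerm ^ (k : ℕ)) (threeRep a)).card := by
  decide +kernel

theorem exists_fixed_of_involutive : ∀ s : Fin 3 → Fin 3, (∀ a, s (s a) = a) → ∃ a, s a = a := by
  decide +kernel

theorem centralizer_perm {τ : M24} (h0 : τ.1 none = none) (h1 : τ.1 (some 0) = some 0)
    (hc : τ * cM = cM * τ) (hp : ∀ i, ptVec (τ.1 i) = ptVec i) :
    ∃ k : Fin 5, τ = cM ^ (k : ℕ) := by
  obtain ⟨hcard, hfix, hcyc, hnine, hthree, hsep, hrep, h14, h14', hc1, hc5⟩ := orbit_facts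
  have hcomm : ∀ (σ : M24), σ * cM = cM * σ → ∀ (n : ℕ) (p : GolayPt),
      σ.1 ((cPerm ^ n) p) = (cPerm ^ n) (σ.1 p) := by
    intro σ hσ n p
    have h := congrArg (fun g : M24 => g.1 p) ((show Commute σ cM from hσ).pow_right n).eq
    simp only [Subgroup.coe_mul, Subgroup.coe_pow, Equiv.Perm.mul_apply] at h
    exact h
  obtain ⟨k, hk⟩ : ∃ k : Fin 5, τ.1 (some 14) = (cPerm ^ (k : ℕ)) (some 14) := by
    refine hcyc _ (by rw [hp, h14]) fun e => h14' ?_
    have := hcomm τ hc 1 (some 14)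
    rw [pow_one, e] at this
    exact τ.1.injective this
  refine ⟨k, ?_⟩
  set ρ : M24 := (cM ^ (k : ℕ))⁻¹ * τ with hρ
  suffices hρ1 : ρ = 1 by rw [hρ, inv_mul_eq_one] at hρ1; exact hρ1.symm
  have hρc : ρ * cM = cM * ρ :=
    (((Commute.refl cM).pow_left (k : ℕ)).inv_left.mul_left (show Commute τ cM from hc)).eq
  have hρapp : ∀ p, ρ.1 p = (cPerm ^ (k : ℕ)).symm (τ.1 p) := fun p => rfl
  have hfixk : ∀ p, cPerm p = p → (cPerm ^ (k : ℕ)).symm p = p := fun p e => by
    rw [Equiv.symm_apply_eq]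
    exact ((Equiv.Perm.pow_apply_eq_self_of_apply_eq_self e _)).symm
  have hρ0 : ρ.1 none = none := by rw [hρapp, h0]; exact hfixk _ (by decide +kernel)
  have hρ00 : ρ.1 (some 0) = some 0 := by rw [hρapp, h1]; exact hfixk _ (by decide +kernel)
  have hρ14 : ρ.1 (some 14) = some 14 := by rw [hρapp, hk, Equiv.symm_apply_apply]
  have hρcyc : ∀ n : ℕ, ρ.1 ((cPerm ^ n) (some 14)) = (cPerm ^ n) (some 14) := fun n => by
    rw [hcomm ρ hρc, hρ14]
  have hρpair : ∀ p, (p = some 1 ∨ p = some 5) → ρ.1 p = some 1 ∨ ρ.1 p = some 5 := by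
    intro p hp'
    have hcp : cPerm p = p := by rcases hp' with rfl | rfl; exacts [hc1, hc5]
    have h := hcomm ρ hρc 1 p
    rw [pow_one, hcp] at h
    refine hfix _ h.symm (fun e => ?_) fun e => ?_
    · have := ρ.1.injective (e.trans hρ0.symm)
      rcases hp' with rfl | rfl <;> exact absurd this (by decide)
    · have := ρ.1.injective (e.trans hρ00.symm)
      rcases hp' with rfl | rfl <;> exact absurd this (by decide)
  have hne : ρ.1 (some 1) ≠ ρ.1 (some 5) := fun e => absurd (ρ.1.injective e) (by decide)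
  have hinv9 : ∀ q ∈ ninePts, ρ.1 (ρ.1 q) = q ∧ ρ.1 q ∈ ninePts := by
    intro q hq
    rcases hnine q hq with rfl | rfl | rfl | rfl | ⟨n, rfl⟩
    · rw [hρ0, hρ0]; exact ⟨rfl, hq⟩
    · rw [hρ00, hρ00]; exact ⟨rfl, hq⟩
    · rcases hρpair _ (Or.inl rfl) with e | e
      · rw [e, e]; exact ⟨rfl, hq⟩
      · rw [e]
        refine ⟨(hρpair _ (Or.inr rfl)).resolve_right fun e' => hne (e.trans e'.symm), ?_⟩
        decide +kernel
    · rcases hρpair _ (Or.inr rfl) with e | e
      · rw [e]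
        refine ⟨(hρpair _ (Or.inl rfl)).resolve_left fun e' => hne (e'.trans e.symm), ?_⟩
        decide +kernel
      · rw [e, e]; exact ⟨rfl, hq⟩
    · rw [hρcyc, hρcyc]; exact ⟨rfl, hq⟩
  have hsq : ρ * ρ = 1 := by
    refine Subtype.ext (CfsgLib.Mathieu.eq_one_of_nine_fixed (ρ * ρ).2 ?_)
    rw [← hcard]
    exact Finset.card_le_card fun q hq => CfsgLib.Mathieu.mem_fixedPts.2 (hinv9 q hq).1
  have happ2 : ∀ q, ρ.1 (ρ.1 q) = q := fun q => congrArg (fun g : M24 => g.1 q) hsq
  have hout : ∀ a, ∃ (b : Fin 3) (i : Fin 5),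
      ρ.1 (threeRep a) = (cPerm ^ (i : ℕ)) (threeRep b) := by
    intro a
    refine hthree _ fun hmem => hrep a ?_
    have := (hinv9 _ hmem).2
    rwa [happ2] at this
  choose s i hsi using hout
  have hss : ∀ a, s (s a) = a ∧ ((i a : ℕ) + i (s a)) % 5 = 0 := by
    intro a
    have h := happ2 (threeRep a)
    rw [hsi, hcomm ρ hρc, hsi, ← Equiv.Perm.mul_apply, ← pow_add] at h
    exact hsep a (s (s a)) ⟨(i a : ℕ) + i (s a), by omega⟩ h
  obtain ⟨a, ha⟩ := exists_fixed_of_involutive s fun a => (hss a).1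
  have hia : (i a : ℕ) = 0 := by
    have h := (hss a).2
    rw [ha] at h
    omega
  have hρa : ρ.1 (threeRep a) = threeRep a := by
    rw [hsi, ha, hia, pow_zero, Equiv.Perm.one_apply]
  refine Subtype.ext (CfsgLib.Mathieu.eq_one_of_nine_fixed ρ.2 ?_)
  refine le_trans (twelve_facts a) (Finset.card_le_card fun q hq => ?_)
  refine CfsgLib.Mathieu.mem_fixedPts.2 ?_
  simp only [Finset.mem_union, Finset.mem_insert, Finset.mem_singleton, Finset.mem_image,
    Finset.mem_univ, true_and] at hq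
  rcases hq with ((rfl | rfl) | ⟨n, rfl⟩) | ⟨n, rfl⟩
  · exact hρ0
  · exact hρ00
  · exact hρcyc _
  · rw [hcomm ρ hρc, hρa]

theorem fixPoints_facts : ∀ j : Fin 5,
    mapp (eMats.getD j []) Data.fixPoint = Data.fixPoints.getD j [] := by
  decide +kernel

theorem fixPoint_facts : CheckLeech ptVec ∧ toL ptVec = Data.fixPoint ∧
    Data.fixPoints.length = 5 ∧ mapp Data.matC1 Data.fixPoint = Data.fixPoint ∧
    sqNorm ptVec = 32 ∧ dotInt Spor.vecU ptVec = 16 ∧ dotInt (oddVec none) ptVec = 8 ∧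
    dotInt ptVec (single none 8) = 8 ∧ dotInt Spor.vecU (single none 8) = 32 ∧
    dotInt (oddVec none) (single none 8) = -24 ∧ sqNorm (single none 8) = 64 := by
  decide +kernel

/-- The fixed vector as a lattice vector. -/
def ptL : leechLattice := ⟨ptVec, mem_leech_of_check fixPoint_facts.1⟩

theorem cL_axis : cL • axisVec none = axisVec none := Subtype.ext (funext fun i => by
  simp only [cL, permHom_apply, axisVec, single, Equiv.symm_apply_eq,
    show cM.1 none = none from rfl])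

theorem centralizer_cases {x : Co0} (hx : x ∈ mclStab) (hc : x * cL = cL * x) :
    ∃ i j : Fin 5, x = cL ^ (i : ℕ) * eL ^ (j : ℕ) := by
  obtain ⟨-, htoL, hlen, hfc, hn, hu, ho, hp, hau, hao, han⟩ := fixPoint_facts
  have hU : ∀ {y : Co0}, y ∈ mclStab → ∀ v, ip Spor.leechU (y • v) = ip Spor.leechU v :=
    fun {y} hy v => by have := ip_smul y Spor.leechU v; rwa [show y • Spor.leechU = _ from hy.1] at this
  have hO : ∀ {y : Co0}, y ∈ mclStab → ∀ v, ip oddElt (y • v) = ip oddElt v :=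
    fun {y} hy v => by have := ip_smul y oddElt v; rwa [show y • oddElt = _ from hy.2] at this
  have hcp : cL • ptL = ptL := fixes_of_act act_cL _ _ (by
    show mapp Data.matC1 (toL ptVec) = toL ptVec
    rw [htoL, hfc])
  have hxp : cL • (x • ptL) = x • ptL := by rw [← mul_smul, ← hc, mul_smul, hcp]
  have hmem := fixed32 hxp (by rw [nrm_smul]; exact hn) (by rw [hU hx]; exact hu)
    (by rw [hO hx]; exact ho)
  obtain ⟨n, hn', he⟩ := List.getElem_of_mem hmem
  rw [hlen] at hn'
  set j : Fin 5 := ⟨n, hn'⟩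
  have hj : eL ^ (j : ℕ) • ptL = x • ptL := by
    refine Subtype.ext (toL_injective ?_)
    rw [(act_ePow j).apply, ← he]
    show mapp (eMats.getD j []) (toL ptVec) = _
    rw [htoL, fixPoints_facts, List.getD_eq_getElem _ _ (by rw [hlen]; exact j.2)]
  set y := (eL ^ (j : ℕ))⁻¹ * x with hydef
  have hy : y ∈ mclStab := mul_mem (inv_mem (pow_mem eL_mem _)) hx
  have hyp : y • ptL = ptL := by rw [hydef, mul_smul, ← hj, inv_smul_smul]
  have hyc : y * cL = cL * y :=
    ((((show Commute eL cL from eL_commute.symm)).pow_left (j : ℕ)).inv_left.mul_left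
      (show Commute x cL from hc)).eq
  have hax : y • axisVec none = axisVec none := by
    refine axis_unique (by rw [← mul_smul, ← hyc, mul_smul, cL_axis])
      (by rw [nrm_smul]; exact han) (by rw [hU hy]; exact hau) (by rw [hO hy]; exact hao) ?_
    have := ip_smul y ptL (axisVec none)
    rw [hyp] at this
    exact this.trans hp
  obtain ⟨τ, h0, h1, hτ⟩ := eleven_mcl.frame y (by rw [mem_frameStab, hax]; exact Cg.refl _)
    hy.1 hy.2
  have hτc : τ * cM = cM * τ := permHom_injective (by rw [map_mul, map_mul, ← hτ]; exact hyc)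
  have hτp : ∀ i, ptVec (τ.1 i) = ptVec i := by
    intro i
    have h := congrFun (congrArg Subtype.val hyp) (τ.1 i)
    rw [hτ, permHom_apply, Equiv.symm_apply_apply] at h
    exact h.symm
  obtain ⟨k, rfl⟩ := centralizer_perm h0 h1 hτc hτp
  refine ⟨k, j, ?_⟩
  rw [map_pow] at hτ
  rw [((show Commute cL eL from eL_commute).pow_pow _ _).eq, show cL ^ (k : ℕ) = y from hτ.symm,
    hydef, mul_inv_cancel_left]

end CfsgLib.McLOut
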