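import Cfsg.Agent.McLOut.Relation

/-! The failures of the variants of the relation. -/

set_option autoImplicit false
set_option maxRecDepth 20000

namespace CfsgLib.McLOut

theorem variant_plus : ∀ i j : Fin 5, ¬((i : ℕ) = 0 ∧ (j : ℕ) = 1) → ¬((i : ℕ) = 2 ∧ (j : ℕ) = 4) →
    variantEval Data.matD Data.matD9 i j ≠ testVec := by
  decide +kernel

end CfsgLib.McLOut
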