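import Cfsg.Agent.McLOut.Generate
import Cfsg.Agent.McLOut.Small
import Cfsg.Agent.McLOut.VariantPlus
import Cfsg.Agent.McLOut.VariantMinus
import Cfsg.Prelude.Def_Spor_Conway
import Cfsg.Agent.HSOut.Main

/-!
The outer automorphism group of the joint stabiliser of two short vectors with product `-8` has
order two.
-/

set_option autoImplicit false
set_option linter.style.haveILetI false

namespace CfsgLib.McLOut

open Cfsg CfsgLib.Leech
open scoped Pointwise

/-- The doubling map in the stabiliser. -/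
def dS : mclStab := ⟨doubleL, doubleL_mem⟩

/-- The permutation of order five in the stabiliser. -/
def cS : mclStab := ⟨cL, cL_mem⟩

/-- The second element of order five in the stabiliser. -/
def eS : mclStab := ⟨eL, eL_mem⟩

theorem cS_conj : cS * dS * cS⁻¹ = dS ^ 3 := Subtype.ext cL_conj

theorem dS_pow : dS ^ 11 = 1 := Subtype.ext doubleL_pow

theorem orderOf_dS : orderOf dS = 11 := by
  haveI : Fact (Nat.Prime 11) := ⟨by norm_num⟩
  refine orderOf_eq_prime dS_pow fun h => ?_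
  have h' : permHom doubleM = permHom 1 := by rw [map_one]; exact congrArg Subtype.val h
  exact double_facts.2.2.2 (congrArg (fun g : M24 => g.1 (some 1)) (permHom_injective h'))

theorem m22Stab_double : m22Stab eleven_mcl double22 = dS := Subtype.ext rfl

theorem centralizer_dS {x : mclStab} (hx : x * dS = dS * x) : x ∈ Subgroup.zpowers dS := by
  have h := eleven_mcl.centralizer (x := x) (by rw [m22Stab_double]; exact hx)
  rwa [m22Stab_double] at h

theorem centralizer_cS {x : mclStab} (hx : x * cS = cS * x) :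
    ∃ i j : Fin 5, x = cS ^ (i : ℕ) * eS ^ (j : ℕ) := by
  obtain ⟨i, j, h⟩ := centralizer_cases x.2 (congrArg Subtype.val hx)
  exact ⟨i, j, Subtype.ext h⟩

theorem closure_three : Subgroup.closure ({dS, cS, eS} : Set mclStab) = ⊤ := by
  apply Subgroup.map_injective (Subgroup.subtype_injective mclStab)
  rw [MonoidHom.map_closure, ← MonoidHom.range_eq_map, Subgroup.range_subtype]
  conv_rhs => rw [← closure_gens]
  congr 1
  ext g
  simp [gens0, dS, cS, eS, eq_comm]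

theorem hom_ext {φ ψ : MulAut mclStab} (hd : φ dS = ψ dS) (hc : φ cS = ψ cS)
    (he : φ eS = ψ eS) : φ = ψ := by
  refine MulEquiv.ext fun x => ?_
  have hle : Subgroup.closure ({dS, cS, eS} : Set mclStab) ≤
      φ.toMonoidHom.eqLocus ψ.toMonoidHom := by
    refine (Subgroup.closure_le _).2 ?_
    rintro _ (rfl | rfl | rfl)
    exacts [hd, hc, he]
  exact hle (by rw [closure_three]; exact Subgroup.mem_top x)

theorem gL_conj_mem {x : Co0} (hx : x ∈ mclStab) : gL * x * gL⁻¹ ∈ mclStab := by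
  obtain ⟨hU, hO⟩ := gL_swap
  have hU' : gL⁻¹ • Spor.leechU = oddElt := by rw [inv_smul_eq_iff, hO]
  have hO' : gL⁻¹ • oddElt = Spor.leechU := by rw [inv_smul_eq_iff, hU]
  refine ⟨?_, ?_⟩
  · show (gL * x * gL⁻¹) • Spor.leechU = Spor.leechU
    rw [mul_smul, mul_smul, hU', show x • oddElt = oddElt from hx.2, hO]
  · show (gL * x * gL⁻¹) • oddElt = oddElt
    rw [mul_smul, mul_smul, hO', show x • Spor.leechU = Spor.leechU from hx.1, hU]

theorem gL_inv_conj_mem {x : Co0} (hx : x ∈ mclStab) : gL⁻¹ * x * gL ∈ mclStab := by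
  obtain ⟨hU, hO⟩ := gL_swap
  have hU' : gL⁻¹ • Spor.leechU = oddElt := by rw [inv_smul_eq_iff, hO]
  have hO' : gL⁻¹ • oddElt = Spor.leechU := by rw [inv_smul_eq_iff, hU]
  refine ⟨?_, ?_⟩
  · show (gL⁻¹ * x * gL) • Spor.leechU = Spor.leechU
    rw [mul_smul, mul_smul, hU, show x • oddElt = oddElt from hx.2, hO']
  · show (gL⁻¹ * x * gL) • oddElt = oddElt
    rw [mul_smul, mul_smul, hO, show x • Spor.leechU = Spor.leechU from hx.1, hU']

/-- The outer automorphism. -/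
def outerAut : MulAut mclStab where
  toFun x := ⟨gL * x.1 * gL⁻¹, gL_conj_mem x.2⟩
  invFun x := ⟨gL⁻¹ * x.1 * gL, gL_inv_conj_mem x.2⟩
  left_inv x := Subtype.ext (by group)
  right_inv x := Subtype.ext (by group)
  map_mul' x y := Subtype.ext (by simp only [Subgroup.coe_mul]; group)

theorem outerAut_values :
    outerAut dS = dS ∧ outerAut cS = cS ∧ outerAut eS = cS ^ 2 * eS ^ 4 := by
  refine ⟨Subtype.ext ?_, Subtype.ext ?_, Subtype.ext ?_⟩
  · exact mul_inv_eq_of_eq_mul gL_commute_double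
  · exact mul_inv_eq_of_eq_mul gL_commute_c
  · exact mul_inv_eq_of_eq_mul gL_conj_e

theorem outerAut_not_inn : outerAut ∉ Cfsg.Inn mclStab := by
  rintro ⟨h, hh⟩
  obtain ⟨hd, hc, he⟩ := outerAut_values
  rw [← hh] at hd hc he
  simp only [MulAut.conj_apply] at hd hc he
  obtain ⟨m, rfl⟩ := Subgroup.mem_zpowers_iff.1
    (centralizer_dS (mul_inv_eq_iff_eq_mul.1 hd))
  have h3 : cS * dS ^ m * cS⁻¹ = dS ^ m := by
    rw [← mul_inv_eq_iff_eq_mul.1 hc, mul_inv_cancel_right]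
  rw [← conj_zpow, cS_conj, ← zpow_natCast, ← zpow_mul] at h3
  have h11 : (11 : ℤ) ∣ m := by
    have := orderOf_dvd_iff_zpow_eq_one.2
      (show dS ^ ((3 : ℕ) * m - m : ℤ) = 1 by rw [zpow_sub, h3, mul_inv_cancel])
    rw [orderOf_dS] at this
    push_cast at this
    omega
  obtain ⟨q, rfl⟩ := h11
  rw [zpow_mul, show ((11 : ℤ)) = ((11 : ℕ) : ℤ) from rfl, zpow_natCast, dS_pow, one_zpow,
    one_mul, inv_one, mul_one] at he
  have h24 : eL = cL ^ 2 * eL ^ 4 := congrArg Subtype.val he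
  have hfix := congrArg (fun g : Co0 => g • ptL) h24
  simp only [mul_smul] at hfix
  have hcp : cL • ptL = ptL := fixes_of_act act_cL _ _ (by
    show mapp Data.matC1 (toL ptVec) = toL ptVec
    rw [fixPoint_facts.2.1, fixPoint_facts.2.2.2.1])
  have h4 : cL ^ 2 • (eL ^ 4 • ptL) = eL ^ 4 • ptL := by
    have hcomm : cL * eL ^ 4 = eL ^ 4 * cL :=
      ((show Commute cL eL from eL_commute).pow_right 4).eq
    have h1 : cL • (eL ^ 4 • ptL) = eL ^ 4 • ptL := by rw [← mul_smul, hcomm, mul_smul, hcp]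
    rw [pow_two, mul_smul, h1, h1]
  rw [h4] at hfix
  have e1 := (act_ePow 4).apply ptL
  rw [show eL ^ ((4 : Fin 5) : ℕ) = eL ^ 4 from rfl, ← hfix, act_eL.apply,
    show toL (ptL : GolayPt → ℤ) = Data.fixPoint from fixPoint_facts.2.1] at e1
  exact absurd e1 (by decide +kernel)

theorem residues : ∀ k : Fin 11, (k : ℕ) ≠ 0 →
    ∃ i : Fin 5, (k : ℕ) * 3 ^ (i : ℕ) % 11 = 1 ∨ (k : ℕ) * 3 ^ (i : ℕ) % 11 = 10 := by
  decide +kernel

theorem conj_dS (n k : ℕ) : cS ^ n * dS ^ k * (cS ^ n)⁻¹ = dS ^ (k * 3 ^ n) := by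
  induction n with
  | zero => simp
  | succ n ih =>
    rw [pow_succ', mul_inv_rev, show cS * cS ^ n * dS ^ k * ((cS ^ n)⁻¹ * cS⁻¹) =
      cS * (cS ^ n * dS ^ k * (cS ^ n)⁻¹) * cS⁻¹ by group, ih, ← conj_pow, cS_conj, ← pow_mul]
    ring_nf

/-- Every automorphism can be corrected by an inner one to one of two. -/
theorem inn_or (φ : MulAut mclStab) :
    φ ∈ Cfsg.Inn mclStab ∨ outerAut⁻¹ * φ ∈ Cfsg.Inn mclStab := by
  haveI : Finite Co0 := finite_co0
  haveI : Fact (Nat.Prime 11) := ⟨by norm_num⟩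
  obtain ⟨hu, ho, hud⟩ := mcl_base
  have hfac : (Nat.card mclStab).factorization 11 = 1 := by
    rw [card_mcl hu ho hud, show (898128000 : ℕ) = 11 * 81648000 by norm_num,
      Nat.factorization_mul (by norm_num) (by norm_num), Finsupp.add_apply,
      Nat.Prime.factorization_self (by norm_num),
      Nat.factorization_eq_zero_of_not_dvd (by norm_num)]
  -- the image of the doubling map
  obtain ⟨h, hh⟩ : ∃ h : mclStab, h * φ dS * h⁻¹ ∈ Subgroup.zpowers dS := by
    let P : Sylow 11 mclStab := Sylow.ofCard (Subgroup.zpowers (φ dS)) (by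
      rw [Nat.card_zpowers, φ.orderOf_eq, orderOf_dS, hfac, pow_one])
    let Q : Sylow 11 mclStab := Sylow.ofCard (Subgroup.zpowers dS) (by
      rw [Nat.card_zpowers, orderOf_dS, hfac, pow_one])
    obtain ⟨g, hg⟩ := MulAction.exists_smul_eq mclStab P Q
    refine ⟨g, ?_⟩
    have : MulAut.conj g • φ dS ∈ (MulAut.conj g • (P : Subgroup mclStab)) :=
      Subgroup.smul_mem_pointwise_smul _ _ _ (Subgroup.mem_zpowers _)
    rw [← Sylow.coe_subgroup_smul, hg] at this
    exact this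
  obtain ⟨k, hk, hkd⟩ : ∃ k < 11, dS ^ k = h * φ dS * h⁻¹ := by
    obtain ⟨k, hk⟩ := mem_powers_iff_mem_zpowers.2 hh
    exact ⟨k % 11, Nat.mod_lt _ (by norm_num), by rw [← pow_eq_pow_mod k dS_pow]; exact hk⟩
  have hk0 : k ≠ 0 := by
    rintro rfl
    rw [pow_zero, eq_comm, mul_inv_eq_one, mul_eq_left] at hkd
    have := congrArg orderOf hkd
    rw [φ.orderOf_eq, orderOf_dS, orderOf_one] at this
    omega
  obtain ⟨i, hi⟩ := residues ⟨k, hk⟩ hk0
  set φ1 : MulAut mclStab := MulAut.conj (cS ^ (i : ℕ) * h) * φ with hφ1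
  have hd1 : φ1 dS = dS ^ (k * 3 ^ (i : ℕ)) := by
    rw [hφ1, MulAut.mul_apply, map_mul, MulAut.mul_apply, MulAut.conj_apply, MulAut.conj_apply,
      ← conj_dS, hkd]
  obtain ⟨n, hn, hdn⟩ : ∃ n, (n = 1 ∨ n = 10) ∧ φ1 dS = dS ^ n :=
    ⟨_, hi, hd1.trans (pow_eq_pow_mod _ dS_pow)⟩
  -- the image of the permutation of order five
  obtain ⟨m, hm⟩ : ∃ m : ℤ, φ1 cS = cS * dS ^ m := by
    have h1 : φ1 cS * dS ^ n * (φ1 cS)⁻¹ = (dS ^ 3) ^ n := by
      rw [← hdn, ← map_inv, ← map_mul, ← map_mul, cS_conj, map_pow, hdn, ← pow_mul, ← pow_mul,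
        mul_comm]
    have h2 : cS⁻¹ * φ1 cS * dS ^ n = dS ^ n * (cS⁻¹ * φ1 cS) := by
      rw [mul_assoc, mul_inv_eq_iff_eq_mul.1 h1, ← mul_assoc, ← mul_assoc,
        show (dS ^ 3) ^ n = cS * dS ^ n * cS⁻¹ by rw [← cS_conj, conj_pow]]
      group
    have hgen : dS ∈ Subgroup.zpowers (dS ^ n) := by
      rcases hn with rfl | rfl
      · rw [pow_one]; exact Subgroup.mem_zpowers _
      · refine Subgroup.mem_zpowers_iff.2 ⟨10, ?_⟩
        rw [show (10 : ℤ) = ((10 : ℕ) : ℤ) from rfl, zpow_natCast, ← pow_mul,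
          pow_eq_pow_mod _ dS_pow]
        norm_num
    obtain ⟨q, hq⟩ := Subgroup.mem_zpowers_iff.1 hgen
    obtain ⟨m, hm⟩ := Subgroup.mem_zpowers_iff.1 (centralizer_dS (x := cS⁻¹ * φ1 cS) (by
      rw [← hq]; exact ((show Commute _ _ from h2).zpow_right q).eq))
    exact ⟨m, by rw [hm, mul_inv_cancel_left]⟩
  set φ2 : MulAut mclStab := MulAut.conj (dS ^ (7 * m : ℤ)) * φ1 with hφ2
  have hd2 : φ2 dS = dS ^ n := by
    rw [hφ2, MulAut.mul_apply, hdn, MulAut.conj_apply, ← zpow_natCast, ← zpow_add, ← zpow_neg,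
      ← zpow_add]
    congr 1
    ring
  have hc2 : φ2 cS = cS := by
    have h4 : cS⁻¹ * dS * cS = dS ^ 4 := by
      have h := congrArg (fun x => cS⁻¹ * x ^ 4 * cS) cS_conj
      simp only [conj_pow, ← pow_mul] at h
      rw [show cS⁻¹ * (cS * dS ^ 4 * cS⁻¹) * cS = dS ^ 4 by group,
        pow_eq_pow_mod (3 * 4) dS_pow] at h
      simpa using h.symm
    have h5 : cS⁻¹ * dS ^ (7 * m : ℤ) * cS = dS ^ (28 * m : ℤ) := by
      have := (MulAut.conj cS⁻¹).toMonoidHom.map_zpow dS (7 * m)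
      simp only [MulEquiv.coe_toMonoidHom, MulAut.conj_apply, inv_inv] at this
      rw [this, h4, ← zpow_natCast, ← zpow_mul]
      congr 1
      ring
    rw [hφ2, MulAut.mul_apply, hm, MulAut.conj_apply]
    calc dS ^ (7 * m : ℤ) * (cS * dS ^ m) * (dS ^ (7 * m : ℤ))⁻¹
        = cS * ((cS⁻¹ * dS ^ (7 * m : ℤ) * cS) * dS ^ m * (dS ^ (7 * m : ℤ))⁻¹) := by group
      _ = cS := by
        rw [h5, ← zpow_add, ← zpow_neg, ← zpow_add,
          show (28 * m + m + -(7 * m) : ℤ) = ((11 : ℕ) : ℤ) * (2 * m) by push_cast; ring,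
          zpow_mul, zpow_natCast, dS_pow, one_zpow, mul_one]
  -- the image of the second element of order five
  obtain ⟨a, b, he2⟩ := centralizer_cS (x := φ2 eS) (by
    conv_lhs => rw [← hc2]
    conv_rhs => rw [← hc2]
    rw [← map_mul, ← map_mul]
    exact congrArg φ2 (Subtype.ext eL_commute.symm))
  have hrel : (doubleL ^ n * (cL ^ (a : ℕ) * eL ^ (b : ℕ)) * (doubleL ^ n) ^ 9 *
      (cL ^ (a : ℕ) * eL ^ (b : ℕ)) ^ 2) ^ 4 = 1 := by
    have h0 : (dS * eS * dS ^ 9 * eS ^ 2) ^ 4 = 1 := Subtype.ext relation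
    have h1 := congrArg φ2 h0
    simp only [map_pow, map_mul, map_one, hd2, he2] at h1
    exact congrArg Subtype.val h1
  have hcase : n = 1 ∧ (((a : ℕ) = 0 ∧ (b : ℕ) = 1) ∨ ((a : ℕ) = 2 ∧ (b : ℕ) = 4)) := by
    rcases hn with rfl | rfl
    · refine ⟨rfl, ?_⟩
      by_contra hne
      rw [not_or] at hne
      rw [pow_one] at hrel
      exact variant_moves act_doubleL act_d9 cL_pow_five eL_pow_five eL_commute a b
        (variant_plus a b hne.1 hne.2) hrel
    · rw [← pow_mul, pow_eq_pow_mod (10 * 9) doubleL_pow] at hrel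
      exact absurd hrel (variant_moves act_d10 act_d2 cL_pow_five eL_pow_five eL_commute a b
        (variant_minus a b))
  obtain ⟨rfl, hab⟩ := hcase
  rw [pow_one] at hd2
  set g : mclStab := dS ^ (7 * m : ℤ) * (cS ^ (i : ℕ) * h) with hg
  have hφ : φ = MulAut.conj g⁻¹ * φ2 := by
    rw [hφ2, hφ1, ← mul_assoc, ← mul_assoc, ← map_mul, ← map_mul, mul_assoc g⁻¹, ← hg,
      inv_mul_cancel, map_one, one_mul]
  obtain ⟨o1, o2, o3⟩ := outerAut_values
  rcases hab with ⟨ha, hb⟩ | ⟨ha, hb⟩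
  · left
    rw [hφ, show φ2 = 1 from hom_ext hd2 hc2 (by rw [he2, ha, hb]; simp), mul_one]
    exact ⟨_, rfl⟩
  · right
    rw [hφ, show φ2 = outerAut from hom_ext (hd2.trans o1.symm) (hc2.trans o2.symm)
      (by rw [he2, ha, hb, o3])]
    refine ⟨outerAut⁻¹ g⁻¹, MulEquiv.ext fun x => ?_⟩
    simp [MulAut.conj_inv_apply, MulAut.mul_apply, map_mul, map_inv]

theorem card_out_mclStab : Nat.card (Cfsg.Out mclStab) = 2 := by
  rw [← Subgroup.index_eq_card]
  refine Subgroup.index_eq_two_iff.2 ⟨outerAut⁻¹, fun φ => ?_⟩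
  rcases inn_or φ with h | h
  · refine Or.inr ⟨h, fun hm => outerAut_not_inn ?_⟩
    exact inv_mem_iff.1 ((Subgroup.mul_mem_cancel_left _ h).1 hm)
  · have hn : (Cfsg.Inn mclStab).Normal := inferInstance
    refine Or.inl ⟨?_, fun hφ => outerAut_not_inn ?_⟩
    · have := hn.mem_comm h
      exact this
    · exact inv_mem_iff.1 ((Subgroup.mul_mem_cancel_right _ hφ).1 h)

theorem mcl_vectors : nrm Spor.leechU = 32 ∧ nrm (-(Spor.leechU + Spor.leechV)) = 32 ∧
    ip Spor.leechU (-(Spor.leechU + Spor.leechV)) = -8 := by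
  refine ⟨nrm_leechU, ?_, ?_⟩
  · show sqNorm (-(Spor.vecU + Spor.vecV)) = 32
    decide +kernel
  · show dotInt Spor.vecU (-(Spor.vecU + Spor.vecV)) = -8
    decide +kernel

/-- The group `Spor.McL` inside `Co0`. -/
def sporMcLEquiv : Spor.McL ≃* pairStab Spor.leechU (-(Spor.leechU + Spor.leechV)) where
  toFun g := ⟨⟨g.1, g.2.1.1⟩, g.2.2,
    show (⟨g.1, g.2.1.1⟩ : Co0) • (-(Spor.leechU + Spor.leechV)) = _ by
      rw [co0_map_neg, co0_map_add, show (⟨g.1, g.2.1.1⟩ : Co0) • Spor.leechU = _ from g.2.2,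
        show (⟨g.1, g.2.1.1⟩ : Co0) • Spor.leechV = _ from g.2.1.2]⟩
  invFun g := ⟨g.1.1, ⟨g.1.2,
    show g.1 • Spor.leechV = Spor.leechV by
      have h : g.1 • (-(Spor.leechU + Spor.leechV)) = _ := g.2.2
      rwa [co0_map_neg, co0_map_add, neg_inj, show g.1 • Spor.leechU = _ from g.2.1,
        add_right_inj] at h⟩, g.2.1⟩
  left_inv _ := rfl
  right_inv _ := rfl
  map_mul' _ _ := rfl

theorem card_out_mcl : Nat.card (Cfsg.Out Spor.McL) = 2 := by
  obtain ⟨h1, h2, h3⟩ := mcl_vectors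
  obtain ⟨hu, ho, hud⟩ := mcl_base
  obtain ⟨g, hg, hgw⟩ := exists_pair_neg8 _ _ _ _ h1 h2 h3 hu ho hud
  rw [HSOut.card_out_congr (sporMcLEquiv.trans (pairStabEquiv hg hgw))]
  exact card_out_mclStab

end CfsgLib.McLOut
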