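import Cfsg.Agent.Leech.Co0

/-!
Elements of the automorphism group of the lattice recorded by matrices: eight times the rational
entries, stored by rows in a fixed order of the coordinates.
-/

set_option autoImplicit false

namespace CfsgLib.McLOut

open Cfsg CfsgLib.Leech

/-- The coordinates in a fixed order. -/
def ptList : List GolayPt := none :: (List.range 23).map fun n : ℕ => some (n : ZMod 23)

/-- The position of a coordinate. -/
def ptPos : GolayPt → ℕ
  | none => 0
  | some x => x.val + 1

theorem ptList_facts : ptList.Nodup ∧ ptList.toFinset = Finset.univ ∧ ptList.length = 24 ∧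
    ∀ i, ptPos i < 24 ∧ ptList.getD (ptPos i) none = i := by
  decide +kernel

/-- The list of coordinates of a vector. -/
def toL (v : GolayPt → ℤ) : List ℤ := ptList.map v

/-- The vector with a given list of coordinates. -/
def ofL (l : List ℤ) : GolayPt → ℤ := fun i => l.getD (ptPos i) 0

theorem ofL_toL (v : GolayPt → ℤ) : ofL (toL v) = v := by
  funext i
  obtain ⟨h1, h2⟩ := ptList_facts.2.2.2 i
  have hlen : ptPos i < ptList.length := by rw [ptList_facts.2.2.1]; exact h1
  rw [List.getD_eq_getElem _ _ hlen] at h2
  simp only [ofL, toL]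
  rw [List.getD_eq_getElem _ _ (by simpa using hlen), List.getElem_map, h2]

theorem toL_injective : Function.Injective toL := fun v w h => by
  rw [← ofL_toL v, ← ofL_toL w, h]

/-- The product of two coordinate lists. -/
def dotL : List ℤ → List ℤ → ℤ
  | x :: xs, y :: ys => x * y + dotL xs ys
  | _, _ => 0

/-- Apply a matrix. -/
def mapp (R : List (List ℤ)) (x : List ℤ) : List ℤ := R.map fun r => dotL r x / 8

theorem dotL_map (a b : GolayPt → ℤ) : dotL (toL a) (toL b) = ∑ i, a i * b i := by
  have key : ∀ l : List GolayPt, dotL (l.map a) (l.map b) = (l.map fun i => a i * b i).sum := by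
    intro l
    induction l with
    | nil => rfl
    | cons x xs ih => simp only [List.map_cons, dotL, List.sum_cons, ih]
  rw [toL, toL, key, ← List.sum_toFinset _ ptList_facts.1, ptList_facts.2.1]

theorem dotL_toL (a b : GolayPt → ℤ) : dotL (toL a) (toL b) = dotInt a b := dotL_map a b

/-- Evaluate a word of matrices. -/
def evalW (Rs : List (List (List ℤ))) (x : List ℤ) : List ℤ := Rs.foldr mapp x

/-- The list of coordinates of eight times a coordinate vector. -/
def axisL (p : GolayPt) : List ℤ := toL fun q => if q = p then 8 else 0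

/-- The matrix `R` records `g`. -/
def Act (g : Co0) (R : List (List ℤ)) : Prop :=
  R = ptList.map fun j => toL fun k => ((g • axisVec k : leechLattice) : GolayPt → ℤ) j

theorem Act.apply {g : Co0} {R : List (List ℤ)} (h : Act g R) (v : leechLattice) :
    toL ((g • v : leechLattice) : GolayPt → ℤ) = mapp R (toL (v : GolayPt → ℤ)) := by
  rw [h, mapp, List.map_map]
  conv_lhs => rw [show ∀ w : GolayPt → ℤ, toL w = ptList.map w from fun _ => rfl]
  refine List.map_congr_left fun j _ => ?_
  simp only [Function.comp_apply]
  have h8 : (8 : ℤ) * ((g • v : leechLattice) : GolayPt → ℤ) j =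
      ∑ k, ((g • axisVec k : leechLattice) : GolayPt → ℤ) j * (v : GolayPt → ℤ) k := by
    have e := congrArg (fun w : leechLattice => (w : GolayPt → ℤ) j)
      (show (8 : ℤ) • (g • v) = ∑ k, (v : GolayPt → ℤ) k • (g • axisVec k) by
        rw [← co0_map_zsmul, eight_zsmul_eq_sum, co0_map_sum]
        exact Finset.sum_congr rfl fun k _ => co0_map_zsmul g _ _)
    simp only [AddSubgroup.coe_zsmul, AddSubgroup.val_finset_sum, Finset.sum_apply,
      Pi.smul_apply, smul_eq_mul] at e
    rw [e]
    exact Finset.sum_congr rfl fun k _ => mul_comm _ _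
  rw [dotL_map, ← h8, Int.mul_ediv_cancel_left _ (by norm_num : (8 : ℤ) ≠ 0)]

theorem act_of_axes {g : Co0} {R : List (List ℤ)} (hlen : R = ptList.map fun j =>
      toL fun k => (R.getD (ptPos j) []).getD (ptPos k) 0)
    (h : ∀ k j, ((g • axisVec k : leechLattice) : GolayPt → ℤ) j =
      (R.getD (ptPos j) []).getD (ptPos k) 0) : Act g R := by
  rw [Act, hlen]
  refine List.map_congr_left fun j _ => ?_
  congr 1
  funext k
  exact (h k j).symm

/-- A column of a matrix. -/
def colL (R : List (List ℤ)) (k : GolayPt) : List ℤ := R.map fun r => r.getD (ptPos k) 0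

theorem axisL_eq (k : GolayPt) : toL (axisVec k : GolayPt → ℤ) = axisL k := rfl

theorem evalW_apply {gs : List Co0} {Rs : List (List (List ℤ))}
    (h : List.Forall₂ Act gs Rs) (v : leechLattice) :
    toL ((gs.prod • v : leechLattice) : GolayPt → ℤ) = evalW Rs (toL (v : GolayPt → ℤ)) := by
  induction h with
  | nil => rw [List.prod_nil, one_smul]; rfl
  | cons h₁ _ ih =>
    rw [List.prod_cons, mul_smul, h₁.apply, ih]
    rfl

theorem eq_of_evalW {gs gs' : List Co0} {Rs Rs' : List (List (List ℤ))}
    (h : List.Forall₂ Act gs Rs) (h' : List.Forall₂ Act gs' Rs')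
    (e : ∀ k, evalW Rs (axisL k) = evalW Rs' (axisL k)) : gs.prod = gs'.prod := by
  refine co0_ext fun k => Subtype.ext (toL_injective ?_)
  rw [evalW_apply h, evalW_apply h', axisL_eq, e]

/-- The maps of vectors given by a matrix. -/
def matFun (R : List (List ℤ)) (x : GolayPt → ℤ) : GolayPt → ℤ := fun j =>
  dotL (R.getD (ptPos j) []) (toL x) / 8

/-- The entries of a matrix as a function. -/
def entry (R : List (List ℤ)) (j k : GolayPt) : ℤ := (R.getD (ptPos j) []).getD (ptPos k) 0

theorem matFun_eq {R : List (List ℤ)} (hR : ∀ j, R.getD (ptPos j) [] = toL (entry R j))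
    (x : GolayPt → ℤ) (j : GolayPt) : matFun R x j = (∑ k, entry R j k * x k) / 8 := by
  rw [matFun, hR, dotL_map]

/-- The conditions for a matrix to give an automorphism of the lattice. -/
def CheckMat (R : List (List ℤ)) : Prop :=
  (∀ j, R.getD (ptPos j) [] = toL (entry R j)) ∧ R.length = 24 ∧
  (∀ g ∈ genList, (∀ j, dotL (R.getD (ptPos j) []) (toL g) % 8 = 0) ∧
    CheckLeech (ofL (mapp R (toL g))))

instance decidableCheckMat (R : List (List ℤ)) : Decidable (CheckMat R) := by
  unfold CheckMat; infer_instance

/-- The columns of a matrix have pairwise products `64 δ`. -/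
def CheckOrth (R : List (List ℤ)) : Prop :=
  ∀ k l, dotL (colL R k) (colL R l) = if k = l then 64 else 0

instance decidableCheckOrth (R : List (List ℤ)) : Decidable (CheckOrth R) := by
  unfold CheckOrth; infer_instance

theorem colL_eq {R : List (List ℤ)} (hR : R.length = 24) (k : GolayPt) :
    colL R k = toL fun j => entry R j k := by
  have hpos : ∀ n (hn : n < ptList.length), ptPos (ptList[n]) = n := by decide +kernel
  refine List.ext_getElem (by simp [colL, toL, hR, ptList_facts.2.2.1]) fun n h1 h2 => ?_
  simp only [colL, toL, List.getElem_map]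
  rw [entry, hpos n (by simpa [toL] using h2), List.getD_eq_getElem (l := R)]

theorem matFun_mem {R : List (List ℤ)} (h : CheckMat R) {x : GolayPt → ℤ}
    (hx : x ∈ leechLattice) :
    (∀ j, (8 : ℤ) ∣ ∑ k, entry R j k * x k) ∧ matFun R x ∈ leechLattice := by
  have key : leechLattice ≤
      (show AddSubgroup (GolayPt → ℤ) from
        { carrier := {x | (∀ j, (8 : ℤ) ∣ ∑ k, entry R j k * x k) ∧ matFun R x ∈ leechLattice}
          zero_mem' := ⟨fun j => by simp, by
            rw [show matFun R 0 = 0 from funext fun j => by rw [matFun_eq h.1]; simp]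
            exact zero_mem _⟩
          add_mem' := fun {a b} ha hb => ⟨fun j => by
            simp only [Pi.add_apply, mul_add, Finset.sum_add_distrib]
            exact dvd_add (ha.1 j) (hb.1 j), by
            rw [show matFun R (a + b) = matFun R a + matFun R b from funext fun j => by
              rw [Pi.add_apply, matFun_eq h.1, matFun_eq h.1, matFun_eq h.1]
              simp only [Pi.add_apply, mul_add, Finset.sum_add_distrib]
              exact Int.add_ediv_of_dvd_left (ha.1 j)]
            exact add_mem ha.2 hb.2⟩
          neg_mem' := fun {a} ha => ⟨fun j => by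
            simp only [Pi.neg_apply, mul_neg, Finset.sum_neg_distrib]
            exact (ha.1 j).neg_right, by
            rw [show matFun R (-a) = -matFun R a from funext fun j => by
              rw [Pi.neg_apply, matFun_eq h.1, matFun_eq h.1]
              simp only [Pi.neg_apply, mul_neg, Finset.sum_neg_distrib]
              exact Int.neg_ediv_of_dvd (ha.1 j)]
            exact neg_mem ha.2⟩ }) := by
    refine leech_le_of_genList fun g hg => ?_
    obtain ⟨h1, h2⟩ := h.2.2 g hg
    refine ⟨fun j => ?_, ?_⟩
    · rw [← dotL_map, ← h.1 j]; exact Int.dvd_of_emod_eq_zero (h1 j)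
    · have e : ofL (mapp R (toL g)) = matFun R g := by
        funext j
        have hj : ptPos j < R.length := by rw [h.2.1]; exact (ptList_facts.2.2.2 j).1
        rw [ofL, matFun, mapp, List.getD_eq_getElem _ _ (by simpa using hj), List.getElem_map,
          List.getD_eq_getElem _ _ hj]
      rw [← e]; exact mem_leech_of_check h2
  exact key hx

theorem dotInt_matFun {R : List (List ℤ)} (h : CheckMat R) (ho : CheckOrth R)
    {x y : GolayPt → ℤ} (hx : x ∈ leechLattice) (hy : y ∈ leechLattice) :
    dotInt (matFun R x) (matFun R y) = dotInt x y := by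
  have key : ∀ k l, ∑ j, entry R j k * entry R j l = if k = l then 64 else 0 := by
    intro k l
    rw [← dotL_map, ← colL_eq h.2.1, ← colL_eq h.2.1]
    exact ho k l
  have e8 : ∀ (z : GolayPt → ℤ), z ∈ leechLattice → ∀ j,
      8 * matFun R z j = ∑ k, entry R j k * z k := fun z hz j => by
    rw [matFun_eq h.1]; exact Int.mul_ediv_cancel' ((matFun_mem h hz).1 j)
  have e64 : (64 : ℤ) * dotInt (matFun R x) (matFun R y) = 64 * dotInt x y := by
    unfold dotInt
    calc (64 : ℤ) * ∑ j, matFun R x j * matFun R y j
        = ∑ j, (8 * matFun R x j) * (8 * matFun R y j) := by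
          rw [Finset.mul_sum]; exact Finset.sum_congr rfl fun j _ => by ring
      _ = ∑ k, ∑ l, (∑ j, entry R j k * entry R j l) * (x k * y l) := by
          simp only [e8 x hx, e8 y hy, Finset.sum_mul_sum]
          rw [Finset.sum_comm]
          refine Finset.sum_congr rfl fun k _ => ?_
          rw [Finset.sum_comm]
          refine Finset.sum_congr rfl fun l _ => ?_
          rw [Finset.sum_mul]
          exact Finset.sum_congr rfl fun j _ => by ring
      _ = 64 * ∑ k, x k * y k := by
          simp only [key, ite_mul, zero_mul, Finset.sum_ite_eq, Finset.mem_univ, if_true,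
            Finset.mul_sum]
  linarith

/-- The automorphism given by a matrix whose transpose undoes it. -/
def ofMat (R R' : List (List ℤ)) (h : CheckMat R) (h' : CheckMat R') (ho : CheckOrth R)
    (ht : ∀ j k, entry R' j k = entry R k j) (ho' : CheckOrth R') : Co0 :=
  mkCo0 (matFun R) (matFun R') (fun _ hx => (matFun_mem h hx).2) (fun _ hx => (matFun_mem h' hx).2)
    (fun x hx => by
      have hy := (matFun_mem h hx).2
      funext k
      have e1 : 8 * matFun R' (matFun R x) k = ∑ j, entry R' k j * matFun R x j := by
        rw [matFun_eq h'.1]; exact Int.mul_ediv_cancel' ((matFun_mem h' hy).1 k)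
      have e2 : ∀ j, 8 * matFun R x j = ∑ l, entry R j l * x l := fun j => by
        rw [matFun_eq h.1]; exact Int.mul_ediv_cancel' ((matFun_mem h hx).1 j)
      have key : ∀ l, ∑ j, entry R j k * entry R j l = if k = l then 64 else 0 := fun l => by
        rw [← dotL_map, ← colL_eq h.2.1, ← colL_eq h.2.1]; exact ho k l
      have : 8 * (8 * matFun R' (matFun R x) k) = 64 * x k := by
        rw [e1, Finset.mul_sum]
        simp only [ht, mul_left_comm (8 : ℤ), e2, Finset.mul_sum, ← mul_assoc]
        rw [Finset.sum_comm]
        simp only [← Finset.sum_mul, key, ite_mul, zero_mul, Finset.sum_ite_eq, Finset.mem_univ,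
          if_true]
      omega)
    (fun x hx => by
      have hy := (matFun_mem h' hx).2
      funext k
      have e1 : 8 * matFun R (matFun R' x) k = ∑ j, entry R k j * matFun R' x j := by
        rw [matFun_eq h.1]; exact Int.mul_ediv_cancel' ((matFun_mem h hy).1 k)
      have e2 : ∀ j, 8 * matFun R' x j = ∑ l, entry R' j l * x l := fun j => by
        rw [matFun_eq h'.1]; exact Int.mul_ediv_cancel' ((matFun_mem h' hx).1 j)
      have key : ∀ l, ∑ j, entry R' j k * entry R' j l = if k = l then 64 else 0 := fun l => by
        rw [← dotL_map, ← colL_eq h'.2.1, ← colL_eq h'.2.1]; exact ho' k l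
      have : 8 * (8 * matFun R (matFun R' x) k) = 64 * x k := by
        rw [e1, Finset.mul_sum]
        simp only [← ht, mul_left_comm (8 : ℤ), e2, Finset.mul_sum, ← mul_assoc]
        rw [Finset.sum_comm]
        simp only [← Finset.sum_mul, key, ite_mul, zero_mul, Finset.sum_ite_eq, Finset.mem_univ,
          if_true]
      omega)
    (fun x hx y hy => funext fun j => by
      rw [Pi.add_apply, matFun_eq h.1, matFun_eq h.1, matFun_eq h.1]
      simp only [Pi.add_apply, mul_add, Finset.sum_add_distrib]
      exact Int.add_ediv_of_dvd_left ((matFun_mem h hx).1 j))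
    (fun x hx => by
      have := dotInt_matFun h ho hx hx
      simp only [dotInt] at this
      simp only [sqNorm, sq]
      exact this)

theorem act_ofMat {R R' : List (List ℤ)} (h : CheckMat R) (h' : CheckMat R') (ho : CheckOrth R)
    (ht : ∀ j k, entry R' j k = entry R k j) (ho' : CheckOrth R')
    (hR : R = ptList.map fun j => toL (entry R j)) : Act (ofMat R R' h h' ho ht ho') R := by
  refine act_of_axes hR fun k j => ?_
  rw [ofMat, mkCo0_smul, matFun_eq h.1]
  simp only [axisVec, single, mul_ite, mul_zero, Finset.sum_ite_eq', Finset.mem_univ, if_true]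
  rw [Int.mul_ediv_cancel _ (by norm_num : (8 : ℤ) ≠ 0)]
  rfl

end CfsgLib.McLOut
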