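import Cfsg.Agent.McLOut.Perms

/-! The element of order five outside the monomial group. -/

set_option autoImplicit false
set_option maxRecDepth 20000

namespace CfsgLib.McLOut

open Cfsg CfsgLib.Leech

theorem checkMat_matE1 : CheckMat Data.matE1 := by decide +kernel

theorem checkMat_matE1' : CheckMat (transM Data.matE1) := by decide +kernel

theorem checkOrth_matE1 : CheckOrth Data.matE1 := by decide +kernel

theorem checkOrth_matE1' : CheckOrth (transM Data.matE1) := by decide +kernel

theorem trans_matE1 : ∀ j k, entry (transM Data.matE1) j k = entry Data.matE1 k j := by
  decide +kernel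

/-- The element of order five centralising the permutation. -/
def eL : Co0 := ofMat Data.matE1 (transM Data.matE1) checkMat_matE1 checkMat_matE1'
  checkOrth_matE1 trans_matE1 checkOrth_matE1'

theorem act_eL : Act eL Data.matE1 :=
  act_ofMat checkMat_matE1 checkMat_matE1' checkOrth_matE1 trans_matE1 checkOrth_matE1'
    (by decide +kernel)

end CfsgLib.McLOut
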