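import Cfsg.Agent.McLOut.Chain
import Cfsg.Agent.McLOut.Data
import Cfsg.Agent.Leech.ElevenPair
import Cfsg.Agent.Mathieu.M24

/-! A permutation of order five normalising the doubling map, and matrices of permutations. -/

set_option autoImplicit false
set_option maxRecDepth 20000

namespace CfsgLib.McLOut

open Cfsg CfsgLib.Leech

/-- The transpose of a matrix. -/
def transM (R : List (List ℤ)) : List (List ℤ) := ptList.map fun k => colL R k

/-- The permutation of order five as a map. -/
def cFun : GolayPt → GolayPt := Option.map fun x => ((Data.cImg.getD x.val 0 : ℕ) : ZMod 23)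

/-- The inverse of the permutation of order five. -/
def cFunInv : GolayPt → GolayPt := Option.map fun x => ((Data.cInv.getD x.val 0 : ℕ) : ZMod 23)

theorem cFun_inv : ∀ p, cFunInv (cFun p) = p ∧ cFun (cFunInv p) = p := by decide +kernel

/-- The permutation of order five. -/
def cPerm : Equiv.Perm GolayPt :=
  ⟨cFun, cFunInv, fun p => (cFun_inv p).1, fun p => (cFun_inv p).2⟩

theorem cPerm_mem_M24 : cPerm ∈ M24 := Golay.mem_M24_iff.mpr (by decide +kernel)

/-- The permutation of order five in `M24`. -/
def cM : M24 := ⟨cPerm, cPerm_mem_M24⟩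

theorem act_perm {σ : M24} {R : List (List ℤ)}
    (h : R = ptList.map fun j => toL fun k =>
      if (σ : Equiv.Perm GolayPt).symm j = k then 8 else 0) : Act (permHom σ) R := by
  rw [Act, h]
  refine List.map_congr_left fun j _ => ?_
  congr 1

/-- The permutation of order five on the lattice. -/
def cL : Co0 := permHom cM

theorem act_doubleL : Act doubleL Data.matD := act_perm (by decide +kernel)

theorem act_cL : Act cL Data.matC1 := act_perm (by decide +kernel)

/-- The doubling map to the tenth power. -/
theorem act_d10 : Act (doubleL ^ 10) Data.matD10 := by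
  rw [doubleL, ← map_pow]
  exact act_perm (by decide +kernel)

theorem act_d9 : Act (doubleL ^ 9) Data.matD9 := by
  rw [doubleL, ← map_pow]
  exact act_perm (by decide +kernel)

theorem act_d2 : Act (doubleL ^ 2) Data.matD2 := by
  rw [doubleL, ← map_pow]
  exact act_perm (by decide +kernel)

/-- The matrices of the powers of the permutation. -/
def cMats : List (List (List ℤ)) :=
  [Data.matC0, Data.matC1, Data.matC2, Data.matC3, Data.matC4]

theorem cMats_spec : ∀ i : Fin 5, cMats.getD i [] = ptList.map fun j => toL fun k =>
    if ((cPerm ^ (i : ℕ)).symm j) = k then 8 else 0 := by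
  decide +kernel

theorem act_cPow (i : Fin 5) : Act (cL ^ (i : ℕ)) (cMats.getD i []) := by
  rw [cL, ← map_pow]
  exact act_perm (cMats_spec i)

theorem cPerm_conj : ∀ p, (cPerm * double * cPerm⁻¹) p = (double ^ 3) p ∧ (cPerm ^ 5) p = p := by
  decide +kernel

end CfsgLib.McLOut
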