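import Cfsg.Agent.McLOut.EPow

/-! A relation of the generators, and the failures of its variants. -/

set_option autoImplicit false
set_option maxRecDepth 20000

namespace CfsgLib.McLOut

open Cfsg CfsgLib.Leech

/-- The relation word in three elements. -/
def relWord {G : Type*} [Monoid G] (d d9 e : G) : List G :=
  [d, e, d9, e, e, d, e, d9, e, e, d, e, d9, e, e, d, e, d9, e, e]

theorem relation_check : ∀ k, evalW
    [Data.matD, Data.matE1, Data.matD9, Data.matE2, Data.matD, Data.matE1, Data.matD9, Data.matE2,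
      Data.matD, Data.matE1, Data.matD9, Data.matE2, Data.matD, Data.matE1, Data.matD9,
      Data.matE2] (axisL k) = axisL k := by
  decide +kernel

theorem relation : (doubleL * eL * doubleL ^ 9 * eL ^ 2) ^ 4 = 1 := by
  have h2 : Act (eL ^ 2) Data.matE2 := act_ePow 2
  have hl : List.Forall₂ Act [doubleL, eL, doubleL ^ 9, eL ^ 2, doubleL, eL, doubleL ^ 9, eL ^ 2,
      doubleL, eL, doubleL ^ 9, eL ^ 2, doubleL, eL, doubleL ^ 9, eL ^ 2]
      [Data.matD, Data.matE1, Data.matD9, Data.matE2, Data.matD, Data.matE1, Data.matD9,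
        Data.matE2, Data.matD, Data.matE1, Data.matD9, Data.matE2, Data.matD, Data.matE1,
        Data.matD9, Data.matE2] :=
    .cons act_doubleL (.cons act_eL (.cons act_d9 (.cons h2 (.cons act_doubleL (.cons act_eL
      (.cons act_d9 (.cons h2 (.cons act_doubleL (.cons act_eL (.cons act_d9 (.cons h2
      (.cons act_doubleL (.cons act_eL (.cons act_d9 (.cons h2 .nil)))))))))))))))
  have := eq_of_evalW (gs' := []) (Rs' := []) hl .nil relation_check
  simpa [pow_succ, mul_assoc] using this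

/-- The matrices of one period of the variant with images `D`, `c ^ i * e ^ j`. -/
def variantMats (D D9 : List (List ℤ)) (i j : Fin 5) : List (List (List ℤ)) :=
  [D, cMats.getD i [], eMats.getD j [], D9, cMats.getD ((i : ℕ) * 2 % 5) [],
    eMats.getD ((j : ℕ) * 2 % 5) []]

/-- A vector moved by all variants. -/
def testVec : List ℤ := Data.dec 686053159114795289240679009804108432

/-- The evaluation of a variant. -/
def variantEval (D D9 : List (List ℤ)) (i j : Fin 5) : List ℤ :=
  evalW (variantMats D D9 i j) (evalW (variantMats D D9 i j)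
    (evalW (variantMats D D9 i j) (evalW (variantMats D D9 i j) testVec)))

theorem testVec_check : CheckLeech (ofL testVec) ∧ toL (ofL testVec) = testVec := by
  decide +kernel

theorem variant_moves {D D9 : Co0} {RD RD9 : List (List ℤ)} (h : Act D RD) (h9 : Act D9 RD9)
    (hc5 : cL ^ 5 = 1) (he5 : eL ^ 5 = 1) (hce : cL * eL = eL * cL) (i j : Fin 5)
    (hne : variantEval RD RD9 i j ≠ testVec) :
    (D * (cL ^ (i : ℕ) * eL ^ (j : ℕ)) * D9 * (cL ^ (i : ℕ) * eL ^ (j : ℕ)) ^ 2) ^ 4 ≠ 1 := by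
  intro hrel
  refine hne ?_
  set v : leechLattice := ⟨ofL testVec, mem_leech_of_check testVec_check.1⟩
  have hv : toL (v : GolayPt → ℤ) = testVec := testVec_check.2
  have hsq : (cL ^ (i : ℕ) * eL ^ (j : ℕ)) ^ 2 =
      cL ^ ((i : ℕ) * 2 % 5) * eL ^ ((j : ℕ) * 2 % 5) := by
    rw [((show Commute cL eL from hce).pow_pow _ _).mul_pow, ← pow_mul, ← pow_mul,
      pow_eq_pow_mod _ hc5, pow_eq_pow_mod (j * 2 : ℕ) he5]
  set gs : List Co0 := [D, cL ^ (i : ℕ), eL ^ (j : ℕ), D9, cL ^ ((i : ℕ) * 2 % 5),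
    eL ^ ((j : ℕ) * 2 % 5)] with hgs
  have hl : List.Forall₂ Act gs (variantMats RD RD9 i j) :=
    .cons h (.cons (act_cPow i) (.cons (act_ePow j) (.cons h9
      (.cons (act_cPow ⟨_, Nat.mod_lt _ (by norm_num)⟩)
        (.cons (act_ePow ⟨_, Nat.mod_lt _ (by norm_num)⟩) .nil)))))
  have hP : gs.prod = D * (cL ^ (i : ℕ) * eL ^ (j : ℕ)) * D9 *
      (cL ^ (i : ℕ) * eL ^ (j : ℕ)) ^ 2 := by
    rw [hsq, hgs]; simp [mul_assoc]
  rw [variantEval, ← hv, ← evalW_apply hl, ← evalW_apply hl, ← evalW_apply hl, ← evalW_apply hl,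
    ← mul_smul, ← mul_smul, ← mul_smul, hP,
    show ∀ a : Co0, a * a * a * a = a ^ 4 from fun a => by simp [pow_succ], hrel, one_smul]

end CfsgLib.McLOut
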